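import Mathlib
import Cfsg.Prelude.Def_TwoFusion
import Cfsg.Prelude.Def_SporadicB
import Cfsg.Agent.S0111

/-!
# An involution centraliser `⟨J⟩ × A_m` with `m ≤ 3` or `6 ≤ m` forces an index two subgroup
-/

set_option autoImplicit false

open Equiv Subgroup
open scoped commutatorElement

namespace CfsgLib.JankoExt

variable {α : Type*} [Fintype α] [DecidableEq α]

/-- The centraliser of a permutation inside the alternating group. -/
def evenCentralizer (f : Perm α) : Subgroup (Perm α) :=
  alternatingGroup α ⊓ Subgroup.centralizer ({f} : Set (Perm α))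

theorem commute_swap {f : Perm α} {a b : α} (hab : (f a = a ∧ f b = b) ∨ (f a = b ∧ f b = a)) :
    Commute (swap a b) f := by
  refine (mul_inv_eq_iff_eq_mul.mp ?_).symm
  rw [← swap_apply_apply]
  rcases hab with ⟨h1, h2⟩ | ⟨h1, h2⟩
  · rw [h1, h2]
  · rw [h1, h2, swap_comm]

theorem quad_mem (hcard : 6 ≤ Fintype.card α) {f : Perm α} (hf : f * f = 1) {a c : α}
    (ha : f a ≠ a) (hc : f c ≠ c) (hca : c ≠ a) (hcb : c ≠ f a) :
    swap a (f a) * swap c (f c) ∈ ⁅evenCentralizer f, evenCentralizer f⁆ := by
  have hff : ∀ x, f (f x) = x := fun x => by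
    have := Equiv.congr_fun hf x
    simpa using this
  set b := f a with hb
  set d := f c with hd
  have hda : d ≠ a := fun e => hcb (by rw [hb, ← e, hd, hff])
  have hdb : d ≠ b := fun e => hca (f.injective e)
  -- a transposition away from the four points commuting with `f`
  obtain ⟨e, e', hee, hne, hne', hef⟩ : ∃ e e' : α, e ≠ e' ∧ e ∉ ({a, b, c, d} : Finset α) ∧
      e' ∉ ({a, b, c, d} : Finset α) ∧ ((f e = e ∧ f e' = e') ∨ (f e = e' ∧ f e' = e)) := by
    have hclosed : ∀ x, x ∉ ({a, b, c, d} : Finset α) → f x ∉ ({a, b, c, d} : Finset α) := by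
      intro x hx hfx
      apply hx
      rw [← hff x]
      simp only [Finset.mem_insert, Finset.mem_singleton] at hfx ⊢
      rcases hfx with h | h | h | h <;> rw [h]
      · exact Or.inr (Or.inl hb.symm)
      · exact Or.inl (hff a)
      · exact Or.inr (Or.inr (Or.inr hd.symm))
      · exact Or.inr (Or.inr (Or.inl (hff c)))
    have h4 : ({a, b, c, d} : Finset α).card ≤ 4 := Finset.card_le_four
    have hcompl : 2 ≤ (({a, b, c, d} : Finset α)ᶜ).card := by
      rw [Finset.card_compl]; omega
    obtain ⟨e, he⟩ := Finset.card_pos.mp (show 0 < (({a, b, c, d} : Finset α)ᶜ).card by omega)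
    have he' := Finset.mem_compl.mp he
    by_cases h : f e = e
    · obtain ⟨e', he2, hne⟩ :=
        Finset.exists_mem_ne (show 1 < (({a, b, c, d} : Finset α)ᶜ).card by omega) e
      have he2' := Finset.mem_compl.mp he2
      by_cases h' : f e' = e'
      · exact ⟨e, e', hne.symm, he', he2', Or.inl ⟨h, h'⟩⟩
      · exact ⟨e', f e', fun x => h' x.symm, he2', hclosed e' he2', Or.inr ⟨rfl, hff e'⟩⟩
    · exact ⟨e, f e, fun x => h x.symm, he', hclosed e he', Or.inr ⟨rfl, hff e⟩⟩
  simp only [Finset.mem_insert, Finset.mem_singleton, not_or] at hne hne'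
  obtain ⟨n1, n2, n3, n4⟩ := hne
  obtain ⟨m1, m2, m3, m4⟩ := hne'
  set u := swap a c * swap b d with hu
  set w := swap a b * swap e e' with hw
  have hab : a ≠ b := fun h => ha h.symm
  have hcd : c ≠ d := fun h => hc h.symm
  have huc : u ∈ evenCentralizer f := by
    refine mem_inf.mpr ⟨?_, mem_centralizer_singleton_iff.mpr ?_⟩
    · rw [Perm.mem_alternatingGroup, hu, Perm.sign_mul, Perm.sign_swap hca.symm,
        Perm.sign_swap (Ne.symm hdb)]
      rfl
    · refine mul_inv_eq_iff_eq_mul.mp ?_ |>.symm
      rw [hu, conj_mul.symm, ← swap_apply_apply, ← swap_apply_apply, ← hb, ← hd]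
      simp only [show f b = a from hff a, show f d = c from hff c]
      exact (show Commute (swap b d) (swap a c) from
        (Perm.Disjoint.commute (by
          intro x
          by_cases h1 : x = b ∨ x = d
          · right
            rcases h1 with rfl | rfl
            · exact swap_apply_of_ne_of_ne hab.symm (Ne.symm hcb)
            · exact swap_apply_of_ne_of_ne hda hcd.symm
          · left
            push Not at h1
            exact swap_apply_of_ne_of_ne h1.1 h1.2))).eq
  have hwc : w ∈ evenCentralizer f := by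
    refine mem_inf.mpr ⟨?_, mem_centralizer_singleton_iff.mpr ?_⟩
    · rw [Perm.mem_alternatingGroup, hw, Perm.sign_mul, Perm.sign_swap hab, Perm.sign_swap hee]
      rfl
    · exact ((commute_swap (Or.inr ⟨hb.symm, hff a⟩)).mul_left (commute_swap hef)).eq
  have key : swap a b * swap c d = ⁅u, w⁆ := by
    have h1 : u * w * u⁻¹ = swap c d * swap e e' := by
      rw [hw, conj_mul.symm, ← swap_apply_apply, ← swap_apply_apply]
      have ua : u a = c := by
        rw [hu, Perm.mul_apply, swap_apply_of_ne_of_ne hab (Ne.symm hda), swap_apply_left]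
      have ub : u b = d := by
        rw [hu, Perm.mul_apply, swap_apply_left, swap_apply_of_ne_of_ne hda hcd.symm]
      have ue : u e = e := by
        rw [hu, Perm.mul_apply, swap_apply_of_ne_of_ne n2 n4, swap_apply_of_ne_of_ne n1 n3]
      have ue' : u e' = e' := by
        rw [hu, Perm.mul_apply, swap_apply_of_ne_of_ne m2 m4, swap_apply_of_ne_of_ne m1 m3]
      rw [ua, ub, ue, ue']
    rw [commutatorElement_def, h1, hw, mul_inv_rev, swap_inv, swap_inv, mul_assoc (swap c d),
      ← mul_assoc (swap e e'), swap_mul_self, one_mul]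
    refine ((Perm.Disjoint.commute ?_).eq).symm
    intro x
    by_cases h1 : x = c ∨ x = d
    · right
      rcases h1 with rfl | rfl
      · exact swap_apply_of_ne_of_ne hca hcb
      · exact swap_apply_of_ne_of_ne hda hdb
    · left
      push Not at h1
      exact swap_apply_of_ne_of_ne h1.1 h1.2
  rw [key]
  exact Subgroup.commutator_mem_commutator huc hwc

/-- An even involution is in the derived group of its centraliser, in degree at least six. -/
theorem mem_derived_evenCentralizer (hcard : 6 ≤ Fintype.card α) {f : Perm α}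
    (hfA : f ∈ alternatingGroup α) (hf : f * f = 1) :
    f ∈ ⁅evenCentralizer f, evenCentralizer f⁆ := by
  have hff : ∀ x, f (f x) = x := fun x => by
    have := Equiv.congr_fun hf x
    simpa using this
  suffices h : ∀ n, ∀ h : Perm α, Perm.sign h = 1 → (∀ x, h x = x ∨ h x = f x) →
      h.support.card ≤ n → h ∈ ⁅evenCentralizer f, evenCentralizer f⁆ from
    h _ f (Perm.mem_alternatingGroup.mp hfA) (fun x => Or.inr rfl) le_rfl
  intro n
  induction n with
  | zero =>
    intro h _ _ hc
    rw [Nat.le_zero, Finset.card_eq_zero, Perm.support_eq_empty_iff] at hc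
    rw [hc]
    exact one_mem _
  | succ n ih =>
    intro h hs hh hc
    by_cases h1 : h = 1
    · rw [h1]; exact one_mem _
    obtain ⟨a, ha⟩ : ∃ a, h a ≠ a := by
      by_contra hall
      push Not at hall
      exact h1 (Equiv.ext hall)
    have haf : h a = f a := (hh a).resolve_left ha
    have hfa : f a ≠ a := haf ▸ ha
    have hb : h (f a) = a := by
      rcases hh (f a) with e | e
      · exact absurd (h.injective (e.trans haf.symm)) hfa
      · rw [e, hff]
    -- `h` is not a single transposition
    obtain ⟨c, hc1, hc2, hc3⟩ : ∃ c, h c ≠ c ∧ c ≠ a ∧ c ≠ f a := by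
      by_contra hall
      push Not at hall
      have : h = swap a (f a) := by
        refine Equiv.ext fun x => ?_
        by_cases hx1 : x = a
        · subst hx1; rw [swap_apply_left, haf]
        by_cases hx2 : x = f a
        · subst hx2; rw [swap_apply_right, hb]
        · rw [swap_apply_of_ne_of_ne hx1 hx2]
          by_contra hne
          exact hx2 (hall x hne hx1)
      rw [this, Perm.sign_swap hfa.symm] at hs
      exact absurd hs (by decide)
    have hcf : h c = f c := (hh c).resolve_left hc1
    have hfc : f c ≠ c := hcf ▸ hc1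
    have hd : h (f c) = c := by
      rcases hh (f c) with e | e
      · exact absurd (h.injective (e.trans hcf.symm)) hfc
      · rw [e, hff]
    set q := swap a (f a) * swap c (f c) with hq
    have hqmem := quad_mem hcard hf hfa hfc hc2 hc3
    have hdz : f c ≠ a := fun e => hc3 (by rw [← e, hff])
    have hdy : f c ≠ f a := fun e => hc2 (f.injective e)
    have happ : ∀ x, (q * h) x = if x = a ∨ x = f a ∨ x = c ∨ x = f c then x else h x := by
      intro x
      rw [hq, Perm.mul_apply, Perm.mul_apply]
      split_ifs with hx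
      · rcases hx with rfl | rfl | rfl | rfl
        · rw [haf, swap_apply_of_ne_of_ne hc3.symm hdy.symm, swap_apply_right]
        · rw [hb, swap_apply_of_ne_of_ne hc2.symm hdz.symm, swap_apply_left]
        · rw [hcf, swap_apply_right, swap_apply_of_ne_of_ne hc2 hc3]
        · rw [hd, swap_apply_left, swap_apply_of_ne_of_ne hdz hdy]
      · push Not at hx
        obtain ⟨x1, x2, x3, x4⟩ := hx
        have y : ∀ y, h y = y → x ≠ y → h x ≠ y := fun y hy hne e =>
          hne (h.injective (e.trans hy.symm))
        rw [swap_apply_of_ne_of_ne (fun e => x4 (h.injective (e.trans hd.symm)))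
          (fun e => x3 (h.injective (e.trans hcf.symm))),
          swap_apply_of_ne_of_ne (fun e => x2 (h.injective (e.trans hb.symm)))
          (fun e => x1 (h.injective (e.trans haf.symm)))]
    have hlt : (q * h).support.card < h.support.card := by
      refine Finset.card_lt_card (Finset.ssubset_iff_of_subset ?_ |>.mpr ⟨a, ?_, ?_⟩)
      · intro x hx
        rw [Perm.mem_support, happ] at hx
        rw [Perm.mem_support]
        split_ifs at hx with hcase
        · exact absurd rfl hx
        · exact hx
      · rwa [Perm.mem_support]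
      · rw [Perm.notMem_support, happ, if_pos (Or.inl rfl)]
    have hrec : q * h ∈ ⁅evenCentralizer f, evenCentralizer f⁆ := by
      refine ih (q * h) ?_ (fun x => ?_) (by omega)
      · rw [hq, Perm.sign_mul, Perm.sign_mul, hs, Perm.sign_swap hfa.symm, Perm.sign_swap hfc.symm]
        rfl
      · rw [happ]
        split_ifs
        · exact Or.inl rfl
        · exact hh x
    have := mul_mem (inv_mem hqmem) hrec
    rwa [inv_mul_cancel_left] at this

section Group

variable {G : Type*} [Group G] [Finite G] {J : G} {T : Subgroup G} {m : ℕ}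

theorem derived_centralizer_le (hd : Cfsg.IsInternalDirectProduct (zpowers J) T
    (Subgroup.centralizer ({J} : Set G))) :
    ⁅Subgroup.centralizer ({J} : Set G), Subgroup.centralizer ({J} : Set G)⁆ ≤ T := by
  obtain ⟨-, hT, hcomm, -, hsup⟩ := hd
  rw [Subgroup.commutator_le]
  have hmem : ∀ a ∈ Subgroup.centralizer ({J} : Set G), ∃ j ∈ zpowers J, ∃ s ∈ T, j * s = a := by
    intro a ha
    rw [← hsup, ← SetLike.mem_coe, Subgroup.coe_mul_of_left_le_normalizer_right _ _
      ((fun w hw => centralizer_le_normalizer _ (mem_centralizer_iff.mpr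
        fun r hr => (hcomm w hw r hr).symm)) : zpowers J ≤ normalizer (T : Set G))] at ha
    exact ha
  intro a ha b hb
  obtain ⟨j, hj, s, hs, rfl⟩ := hmem a ha
  obtain ⟨i, hi, r, hr, rfl⟩ := hmem b hb
  have hji : Commute j i := by
    obtain ⟨u, rfl⟩ := mem_zpowers_iff.mp hj
    obtain ⟨v, rfl⟩ := mem_zpowers_iff.mp hi
    exact (Commute.refl J).zpow_zpow u v
  have e : ⁅j * s, i * r⁆ = ⁅s, r⁆ := by
    have c1 : Commute s i := (hcomm i hi s hs).symm
    have c2 : Commute j r := hcomm j hj r hr
    calc ⁅j * s, i * r⁆ = j * (s * i) * r * s⁻¹ * j⁻¹ * r⁻¹ * i⁻¹ := by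
          rw [commutatorElement_def]; group
      _ = i * (j * (s * r * s⁻¹) * j⁻¹) * r⁻¹ * i⁻¹ := by
          rw [c1.eq, ← mul_assoc j i s, hji.eq]; group
      _ = i * (s * r * s⁻¹ * r⁻¹) * i⁻¹ := by
          rw [hcomm j hj _ (mul_mem (mul_mem hs hr) (inv_mem hs)), mul_inv_cancel_right]; group
      _ = _ := by
          rw [hcomm i hi _ (mul_mem (mul_mem (mul_mem hs hr) (inv_mem hs)) (inv_mem hr)),
            mul_inv_cancel_right, commutatorElement_def]
  rw [e, commutatorElement_def]
  exact mul_mem (mul_mem (mul_mem hs hr) (inv_mem hs)) (inv_mem hr)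

theorem exists_index_two (hJ : Cfsg.IsTwoCentralInvolution J) (e : ↥T ≃* ↥(alternatingGroup (Fin m)))
    (hd : Cfsg.IsInternalDirectProduct (zpowers J) T (Subgroup.centralizer ({J} : Set G)))
    (hm : m ≤ 3 ∨ 6 ≤ m) : ∃ N : Subgroup G, N.Normal ∧ N.index = 2 := by
  obtain ⟨hord, P, hJP, hPc⟩ := hJ
  have hder := derived_centralizer_le hd
  obtain ⟨hzC, hTC, hcomm, hinf, hsup⟩ := hd
  have hPC : (P : Subgroup G) ≤ Subgroup.centralizer ({J} : Set G) := fun x hx =>
    mem_centralizer_singleton_iff.mpr (hPc x hx)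
  have hJT : J ∉ T := fun h => by
    have : J ∈ zpowers J ⊓ T := ⟨mem_zpowers J, h⟩
    rw [hinf, mem_bot] at this
    rw [this, orderOf_one] at hord
    omega
  have hJz : ∀ a ∈ zpowers J, a = 1 ∨ a = J := fun a ha => by
    obtain ⟨i, rfl⟩ := mem_zpowers_iff.mp ha
    have h2 : J ^ (2 : ℤ) = 1 := by
      rw [show (2 : ℤ) = ((2 : ℕ) : ℤ) by rfl, zpow_natCast, ← hord, pow_orderOf_eq_one]
    rcases Int.even_or_odd i with ⟨k, rfl⟩ | ⟨k, rfl⟩
    · left; rw [← two_mul, zpow_mul, h2, one_zpow]
    · right; rw [zpow_add, zpow_mul, h2, one_zpow, one_mul, zpow_one]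
  set Q := (P : Subgroup G) ⊓ T with hQ
  have hQi : Q.relIndex (P : Subgroup G) = 2 := by
    rw [Subgroup.relIndex, Subgroup.index_eq_two_iff]
    refine ⟨⟨J, hJP⟩, fun b => ?_⟩
    have hb := hPC b.2
    rw [← hsup, ← SetLike.mem_coe, Subgroup.coe_mul_of_left_le_normalizer_right _ _
      ((fun w hw => centralizer_le_normalizer _ (mem_centralizer_iff.mpr
        fun r hr => (hcomm w hw r hr).symm)) : zpowers J ≤ normalizer (T : Set G))] at hb
    obtain ⟨a, ha, s, hs, hab⟩ := hb
    simp only at hab
    have hJJ : J * J = 1 := by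
      have := pow_orderOf_eq_one J
      rwa [hord, sq] at this
    have hbJ : (b : G) * J = J * b := hPc b b.2
    simp only [hQ, mem_subgroupOf, mem_inf, Subgroup.coe_mul]
    rcases hJz a ha with rfl | rfl
    · right
      rw [one_mul] at hab
      refine ⟨⟨b.2, hab ▸ hs⟩, ?_⟩
      rintro ⟨-, h⟩
      exact hJT (by
        have := mul_mem (inv_mem (hab ▸ hs : (b : G) ∈ T)) h
        rwa [inv_mul_cancel_left] at this)
    · left
      have e1 : (b : G) * a = s := by rw [hbJ, ← hab, ← mul_assoc, hJJ, one_mul]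
      refine ⟨⟨mul_mem b.2 hJP, e1 ▸ hs⟩, fun h => hJT ?_⟩
      have := mul_mem (inv_mem h.2) (e1 ▸ hs : (b : G) * a ∈ T)
      rwa [inv_mul_cancel_left] at this
  rcases Cfsg.Agent.S0111.result P Q inf_le_left hQi J hord hJP (fun h => hJT h.2) with
    ⟨M, hMn, hMi, -⟩ | ⟨g, hg⟩
  · exact ⟨M, hMn, hMi⟩
  exfalso
  set f := g * J * g⁻¹ with hf
  have hfT : f ∈ T := hg.2
  have hJJ : J * J = 1 := by
    have := pow_orderOf_eq_one J
    rwa [hord, sq] at this
  have hf2 : f * f = 1 := by rw [hf, conj_mul, hJJ, mul_one, mul_inv_cancel]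
  have hf1 : f ≠ 1 := fun h => by
    rw [hf, conj_eq_one_iff] at h
    rw [h, orderOf_one] at hord
    omega
  set k := (e ⟨f, hfT⟩ : Perm (Fin m))
  have hk2 : k * k = 1 := by
    rw [← Subgroup.coe_mul, ← map_mul, show (⟨f, hfT⟩ : T) * ⟨f, hfT⟩ = 1 from Subtype.ext hf2,
      map_one, Subgroup.coe_one]
  rcases hm with hm | hm
  · -- no involution in `T`
    have hcard : Nat.card T ∣ 3 := by
      rw [Nat.card_congr e.toEquiv, Nat.card_eq_fintype_card]
      interval_cases m <;> decide
    have h1 := orderOf_dvd_natCard (⟨f, hfT⟩ : T)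
    rw [← orderOf_coe, show orderOf f = 2 from orderOf_eq_prime (by rw [sq, hf2]) hf1] at h1
    exact absurd (h1.trans hcard) (by norm_num)
  · have hkA : k ∈ alternatingGroup (Fin m) := (e ⟨f, hfT⟩).2
    have hkd := mem_derived_evenCentralizer (by simpa using hm) hkA hk2
    -- transport to `G`
    set φ : alternatingGroup (Fin m) →* G := T.subtype.comp e.symm.toMonoidHom with hφ
    have hle : evenCentralizer k ≤
        ((Subgroup.centralizer ({e ⟨f, hfT⟩} : Set (alternatingGroup (Fin m)))).map
          (alternatingGroup (Fin m)).subtype) := by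
      rintro u ⟨hu1, hu2⟩
      exact ⟨⟨u, hu1⟩, mem_centralizer_singleton_iff.mpr (Subtype.ext
        (mem_centralizer_singleton_iff.mp hu2)), rfl⟩
    have h1 := Subgroup.commutator_mono hle hle hkd
    rw [← Subgroup.map_commutator] at h1
    obtain ⟨y, hy, hyk⟩ := h1
    have hye : y = e ⟨f, hfT⟩ := Subtype.ext hyk
    have h2 : φ y ∈ (⁅Subgroup.centralizer ({e ⟨f, hfT⟩} : Set (alternatingGroup (Fin m))),
        Subgroup.centralizer ({e ⟨f, hfT⟩} : Set (alternatingGroup (Fin m)))⁆).map φ := ⟨y, hy, rfl⟩
    rw [Subgroup.map_commutator] at h2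
    have hφf : φ (e ⟨f, hfT⟩) = f := by simp [hφ]
    have hle2 : (Subgroup.centralizer ({e ⟨f, hfT⟩} : Set (alternatingGroup (Fin m)))).map φ ≤
        (Subgroup.centralizer ({J} : Set G)).map (MulAut.conj g).toMonoidHom := by
      rintro _ ⟨u, hu, rfl⟩
      have hc : Commute (φ u) f := hφf ▸ (show Commute u (e ⟨f, hfT⟩) from
        mem_centralizer_singleton_iff.mp hu).map φ
      refine ⟨g⁻¹ * φ u * g, mem_centralizer_singleton_iff.mpr ?_, by simp [mul_assoc]⟩
      calc g⁻¹ * φ u * g * J = g⁻¹ * (φ u * f) * g := by rw [hf]; group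
        _ = J * (g⁻¹ * φ u * g) := by rw [hc.eq, hf]; group
    have h3 := Subgroup.commutator_mono hle2 hle2 h2
    rw [← Subgroup.map_commutator, hye, hφf] at h3
    obtain ⟨w, hw, hwf⟩ := h3
    have hwJ : w = J := (MulAut.conj g).injective (hwf.trans (MulAut.conj_apply g J).symm)
    exact hJT (hwJ ▸ hder hw)

end Group

end CfsgLib.JankoExt
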