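import Mathlib
import Cfsg.Agent.Lib.JankoOne.Model
import Cfsg.Agent.Lib.JankoOne.Model2

/-!
# The models `2 × A₄` and `2 × A₅` of an involution centraliser
-/

set_option autoImplicit false

open Equiv

namespace CfsgLib.JankoExt

/-- The finite facts on an involution centraliser that the fusion analysis needs. -/
structure Model (K : Type*) [Group K] where
  /-- the central involution -/
  tM : K
  /-- a second involution -/
  vM : K
  /-- an element permuting the Sylow subgroup -/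
  zM : K
  t_ne : tM ≠ 1
  t_sq : tM * tM = 1
  t_comm : ∀ k, k * tM = tM * k
  v_sq : vM * vM = 1
  v_ne : vM ≠ 1
  v_ne_t : vM ≠ tM
  z_cube : zM ^ 3 = 1
  not_sixteen : ¬16 ∣ Nat.card K
  card_cv : Nat.card {k : K // k * vM = vM * k} = 8
  cv_comm : ∀ k, k * vM = vM * k → ∀ l, l * vM = vM * l → k * l = l * k
  cv_sq : ∀ k, k * vM = vM * k → k * k = 1
  z_cv : ∀ k, k * vM = vM * k → zM * k * zM⁻¹ * vM = vM * (zM * k * zM⁻¹)
  orbit : ∀ s : Set K, s ⊆ {k | k * vM = vM * k ∧ k ≠ 1} → tM ∈ s →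
    (∀ k ∈ s, zM * k * zM⁻¹ ∈ s) → Odd s.ncard → s ≠ {tM} → s = {k | k * vM = vM * k ∧ k ≠ 1}
  invol_conj : ∀ k, k * k = 1 → k ≠ 1 → ∃ c, c * k * c⁻¹ * vM = vM * (c * k * c⁻¹)
  pow_four : ∀ k : K, k ^ 4 = 1 → k * k = 1
  odd_dvd : ∀ n, n ∣ Nat.card K → Odd n → n ∣ 15
  odd_escape : ∀ k : K, k ^ 15 = 1 → k ≠ 1 → ∃ c,
    (k * (c * k * c⁻¹) ≠ 1 ∧ (k * (c * k * c⁻¹)) ^ 2 = 1) ∨
    (k * k * (c * k * c⁻¹) ≠ 1 ∧ (k * k * (c * k * c⁻¹)) ^ 2 = 1)

section Orbit

variable {K : Type*} [Group K] [Fintype K] [DecidableEq K] {t v z : K}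

theorem orbit_of_finset (h : ∀ s ∈ (Finset.univ.filter fun k : K => k * v = v * k ∧ k ≠ 1).powerset,
      t ∈ s → (∀ k ∈ s, z * k * z⁻¹ ∈ s) → s.card % 2 = 1 → s ≠ {t} →
        s = Finset.univ.filter fun k : K => k * v = v * k ∧ k ≠ 1) :
    ∀ s : Set K, s ⊆ {k | k * v = v * k ∧ k ≠ 1} → t ∈ s →
      (∀ k ∈ s, z * k * z⁻¹ ∈ s) → Odd s.ncard → s ≠ {t} → s = {k | k * v = v * k ∧ k ≠ 1} := by
  intro s hs ht hz hodd hne
  classical
  have e : (s.toFinset : Set K) = s := Set.coe_toFinset s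
  have := h s.toFinset (Finset.mem_powerset.mpr fun k hk => by
      simpa using hs (Set.mem_toFinset.mp hk)) (by simpa using ht) (by simpa using hz)
    (by rw [← Set.ncard_eq_toFinset_card']; exact Nat.odd_iff.mp hodd)
    (fun e' => hne (by rw [← e, e', Finset.coe_singleton]))
  rw [← e, this, Finset.coe_filter]
  simp

end Orbit

/-- The smaller model. -/
abbrev K4 : Type := Multiplicative (ZMod 2) × alternatingGroup (Fin 4)

/-- An involution in the alternating factor. -/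
def v4 : K4 := (1, ⟨swap 0 1 * swap 2 3, by rw [Perm.mem_alternatingGroup]; decide⟩)

/-- An element of order three. -/
def z4 : K4 := (1, ⟨swap 1 2 * swap 2 3, by rw [Perm.mem_alternatingGroup]; decide⟩)

/-- The central involution. -/
def t4 : K4 := (Multiplicative.ofAdd 1, 1)

theorem facts4 : t4 ≠ 1 ∧ t4 * t4 = 1 ∧ v4 * v4 = 1 ∧ v4 ≠ 1 ∧ v4 ≠ t4 ∧ z4 ^ 3 = 1 := by
  decide +kernel

theorem comm4 : ∀ k : K4, k * t4 = t4 * k := by decide +kernel

theorem card_cv4 : Fintype.card {k : K4 // k * v4 = v4 * k} = 8 := by decide +kernel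

theorem cv_comm4 : ∀ k : K4, k * v4 = v4 * k → ∀ l, l * v4 = v4 * l → k * l = l * k := by
  decide +kernel

theorem cv_sq4 : ∀ k : K4, k * v4 = v4 * k → k * k = 1 := by decide +kernel

theorem z_cv4 : ∀ k : K4, k * v4 = v4 * k → z4 * k * z4⁻¹ * v4 = v4 * (z4 * k * z4⁻¹) := by
  decide +kernel

set_option synthInstance.maxSize 1024 in
theorem orbit4 : ∀ s ∈ (Finset.univ.filter fun k : K4 => k * v4 = v4 * k ∧ k ≠ 1).powerset,
      t4 ∈ s → (∀ k ∈ s, z4 * k * z4⁻¹ ∈ s) → s.card % 2 = 1 → s ≠ {t4} →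
        s = Finset.univ.filter fun k : K4 => k * v4 = v4 * k ∧ k ≠ 1 := by
  decide +kernel

theorem invol_conj4 : ∀ k : K4, k * k = 1 → k ≠ 1 →
    ∃ c, c * k * c⁻¹ * v4 = v4 * (c * k * c⁻¹) := by
  decide +kernel

theorem pow_four4 : ∀ k : K4, k ^ 4 = 1 → k * k = 1 := by decide +kernel

set_option synthInstance.maxSize 1024 in
set_option synthInstance.maxHeartbeats 200000 in
theorem escape4 : ∀ k : K4, k ^ 15 = 1 → k ≠ 1 → ∃ c,
    (k * (c * k * c⁻¹) ≠ 1 ∧ (k * (c * k * c⁻¹)) ^ 2 = 1) ∨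
    (k * k * (c * k * c⁻¹) ≠ 1 ∧ (k * k * (c * k * c⁻¹)) ^ 2 = 1) := by
  decide +kernel

theorem card_K4 : Nat.card K4 = 24 := by
  rw [Nat.card_eq_fintype_card]
  decide +kernel

/-- The model `2 × A₄`. -/
def model4 : Model K4 where
  tM := t4
  vM := v4
  zM := z4
  t_ne := facts4.1
  t_sq := facts4.2.1
  t_comm := comm4
  v_sq := facts4.2.2.1
  v_ne := facts4.2.2.2.1
  v_ne_t := facts4.2.2.2.2.1
  z_cube := facts4.2.2.2.2.2
  not_sixteen := by rw [card_K4]; norm_num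
  card_cv := by rw [Nat.card_eq_fintype_card]; exact card_cv4
  cv_comm := cv_comm4
  cv_sq := cv_sq4
  z_cv := z_cv4
  orbit := orbit_of_finset orbit4
  invol_conj := invol_conj4
  pow_four := pow_four4
  odd_dvd := fun n hn ho => by
    rw [card_K4] at hn
    have := Nat.le_of_dvd (by norm_num) hn
    rw [Nat.odd_iff] at ho
    interval_cases n <;> omega
  odd_escape := escape4

set_option synthInstance.maxSize 1024 in
set_option synthInstance.maxHeartbeats 200000 in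
open CfsgLib.JankoOne in
theorem escape5 : ∀ k : Cmod, k ^ 15 = 1 → k ≠ 1 → ∃ c,
    (k * (c * k * c⁻¹) ≠ 1 ∧ (k * (c * k * c⁻¹)) ^ 2 = 1) ∨
    (k * k * (c * k * c⁻¹) ≠ 1 ∧ (k * k * (c * k * c⁻¹)) ^ 2 = 1) := by
  decide +kernel

open CfsgLib.JankoOne in
/-- The model `2 × A₅`. -/
def model5 : Model Cmod where
  tM := JankoOne.tM
  vM := JankoOne.vM
  zM := JankoOne.zM
  t_ne := tM_facts.1
  t_sq := tM_facts.2.1
  t_comm := JankoOne.commute_tM
  v_sq := tM_facts.2.2.2.2.1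
  v_ne := tM_facts.2.2.1
  v_ne_t := tM_facts.2.2.2.1
  z_cube := tM_facts.2.2.2.2.2.2
  not_sixteen := by rw [JankoOne.card_Cmod]; norm_num
  card_cv := by rw [Nat.card_eq_fintype_card]; exact card_centralizer_vM
  cv_comm := commute_of_commute_vM
  cv_sq := sq_of_commute_vM
  z_cv := zM_conj_commute_vM
  orbit := orbit_of_finset seven_orbit
  invol_conj := involution_conj_seven
  pow_four := JankoOne.pow_four
  odd_dvd := fun n hn ho => by
    rw [JankoOne.card_Cmod] at hn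
    have := Nat.le_of_dvd (by norm_num) hn
    rw [Nat.odd_iff] at ho
    interval_cases n <;> omega
  odd_escape := escape5

/-- Every element of the larger model is a product of two elements of order at most two. -/
theorem strongly_real5 : ∀ k : JankoOne.Cmod, ∃ a, a * a = 1 ∧ a * k * (a * k) = 1 := by
  decide +kernel

theorem not_stable5 : ∃ c l : JankoOne.Cmod, l * JankoOne.vM = JankoOne.vM * l ∧
    ¬c * l * c⁻¹ * JankoOne.vM = JankoOne.vM * (c * l * c⁻¹) := by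
  decide +kernel

end CfsgLib.JankoExt
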