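import Mathlib
import Cfsg.Agent.Lib.JankoExt.Model
import Cfsg.Agent.Lib.Cores.BrauerWielandt
import Cfsg.Prelude.Def_SporadicB

/-!
# Fusion of involutions and the odd normal subgroups
-/

set_option autoImplicit false
set_option linter.style.haveILetI false

open Subgroup

namespace CfsgLib.JankoExt

/-- A two-central involution together with an identification of its centraliser. -/
structure Cent (G : Type*) [Group G] {K : Type*} [Group K] (M : Model K) where
  /-- the involution -/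
  t : G
  /-- the embedding of the model -/
  em : K →* G
  inj : Function.Injective em
  em_t : em M.tM = t
  surj : ∀ g : G, Commute g t → ∃ k, em k = g
  two_central : Cfsg.IsTwoCentralInvolution t
  moved : ∃ g : G, Commute t (g * t * g⁻¹) ∧ g * t * g⁻¹ ≠ t

namespace Cent

variable {G : Type*} [Group G] [Finite G] {K : Type*} [Group K] {M : Model K}
  (C : Cent G M)
include C


omit [Finite G] in
theorem comm (k : K) : Commute (C.em k) C.t := by
  rw [← C.em_t]
  exact (show Commute k M.tM from M.t_comm k).map C.em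

omit [Finite G] in
theorem t_ne : C.t ≠ 1 := fun h => M.t_ne (C.inj (by rw [C.em_t, h, map_one]))

omit [Finite G] in
theorem t_sq : C.t * C.t = 1 := by rw [← C.em_t, ← map_mul, M.t_sq, map_one]

/-- The image of the centraliser of the second involution. -/
def S : Subgroup G := (Subgroup.centralizer ({M.vM} : Set K)).map C.em

omit [Finite G] in
theorem mem_S (k : K) : C.em k ∈ C.S ↔ k * M.vM = M.vM * k := by
  constructor
  · rintro ⟨l, hl, hle⟩
    exact C.inj hle ▸ mem_centralizer_singleton_iff.mp hl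
  · exact fun h => ⟨k, mem_centralizer_singleton_iff.mpr h, rfl⟩

omit [Finite G] in
theorem card_S : Nat.card C.S = 8 := by
  rw [S, card_map_of_injective C.inj, ← M.card_cv]
  exact Nat.card_congr (Equiv.subtypeEquivRight fun k => mem_centralizer_singleton_iff)

theorem exists_sylow : ∃ P : Sylow 2 G, (P : Subgroup G) = C.S := by
  haveI : Fact (Nat.Prime 2) := ⟨Nat.prime_two⟩
  obtain ⟨-, P₀, -, hP₀c⟩ := C.two_central
  have hle : (P₀ : Subgroup G) ≤ C.em.range := fun x hx => C.surj x (hP₀c x hx)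
  have hdvd : Nat.card (P₀ : Subgroup G) ∣ Nat.card K :=
    (card_dvd_of_le hle).trans (by
      rw [Nat.card_congr (MonoidHom.ofInjective C.inj).toEquiv])
  have h8 : 2 ^ 3 ∣ Nat.card (P₀ : Subgroup G) :=
    P₀.pow_dvd_card_of_pow_dvd_card (by
      rw [show (2 : ℕ) ^ 3 = Nat.card C.S by rw [C.card_S]; norm_num]
      exact card_subgroup_dvd_card _)
  obtain ⟨n, hn⟩ := P₀.2.exists_card_eq
  rw [hn] at h8 hdvd
  have hge : 3 ≤ n := (Nat.pow_dvd_pow_iff_le_right (by norm_num)).mp h8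
  have hle3 : n ≤ 3 := by
    by_contra hlt
    exact M.not_sixteen ((Nat.pow_dvd_pow 2 (by omega : 4 ≤ n)).trans hdvd)
  refine ⟨Sylow.ofCard C.S ?_, Sylow.coe_ofCard _ _⟩
  rw [C.card_S, ← P₀.card_eq_multiplicity, hn, le_antisymm hle3 hge]
  norm_num

omit [Finite G] in
theorem S_comm : ∀ a ∈ C.S, ∀ b ∈ C.S, a * b = b * a := by
  rintro _ ⟨k, hk, rfl⟩ _ ⟨l, hl, rfl⟩
  rw [← map_mul, ← map_mul, M.cv_comm k (mem_centralizer_singleton_iff.mp hk) l
    (mem_centralizer_singleton_iff.mp hl)]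

omit [Finite G] in
theorem t_mem_S : C.t ∈ C.S := by
  rw [← C.em_t, C.mem_S]
  exact (M.t_comm M.vM).symm

omit [Finite G] in
theorem em_z_mem : C.em M.zM ∈ normalizer (C.S : Set G) := by
  rw [mem_normalizer_iff]
  have hfwd : ∀ x ∈ C.S, C.em M.zM * x * (C.em M.zM)⁻¹ ∈ C.S := by
    rintro _ ⟨k, hk, rfl⟩
    rw [← map_mul, ← map_inv, ← map_mul, C.mem_S]
    exact M.z_cv k (mem_centralizer_singleton_iff.mp hk)
  intro x
  refine ⟨hfwd x, fun h => ?_⟩
  have h3 : C.em M.zM ^ 3 = 1 := by rw [← map_pow, M.z_cube, map_one]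
  have key := hfwd _ (hfwd _ h)
  have e1 : C.em M.zM * (C.em M.zM * (C.em M.zM * x * (C.em M.zM)⁻¹) * (C.em M.zM)⁻¹) *
      (C.em M.zM)⁻¹ = C.em M.zM ^ 3 * x * (C.em M.zM ^ 3)⁻¹ := by simp [pow_succ, mul_assoc]
  rw [e1, h3] at key
  simpa using key

/-- All involutions of the Sylow subgroup are conjugate to `t` in its normaliser. -/
theorem conj_in_normalizer {k : K} (hk : k * M.vM = M.vM * k) (hk1 : k ≠ 1) :
    ∃ n ∈ normalizer (C.S : Set G), n * C.t * n⁻¹ = C.em k := by
  classical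
  haveI : Fact (Nat.Prime 2) := ⟨Nat.prime_two⟩
  obtain ⟨P, hPS⟩ := C.exists_sylow
  haveI hPc : IsMulCommutative P := ⟨⟨fun a b => Subtype.ext
    (C.S_comm a (hPS ▸ a.2) b (hPS ▸ b.2))⟩⟩
  set N := Subgroup.normalizer (C.S : Set G) with hN
  set s : Set K := {k | (k * M.vM = M.vM * k ∧ k ≠ 1) ∧ ∃ n ∈ N, n * C.t * n⁻¹ = C.em k} with hs
  have horb : ∀ n ∈ N, ∃ k ∈ s, n * C.t * n⁻¹ = C.em k := by
    intro n hn
    obtain ⟨k, hk, hke⟩ := (mem_normalizer_iff.mp hn C.t).mp C.t_mem_S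
    refine ⟨k, ⟨⟨mem_centralizer_singleton_iff.mp hk, ?_⟩, n, hn, hke.symm⟩, hke.symm⟩
    rintro rfl
    apply C.t_ne
    rw [map_one] at hke
    exact conj_eq_one_iff.mp hke.symm
  have hts : M.tM ∈ s := ⟨⟨(M.t_comm M.vM).symm, M.t_ne⟩, 1, one_mem _, by simp [C.em_t]⟩
  have hsz : ∀ k ∈ s, M.zM * k * M.zM⁻¹ ∈ s := by
    rintro k ⟨⟨hkc, hk1⟩, n, hn, hne⟩
    refine ⟨⟨M.z_cv k hkc, fun h => hk1 (conj_eq_one_iff.mp h)⟩, C.em M.zM * n,
      mul_mem C.em_z_mem hn, ?_⟩
    rw [map_mul, map_mul, map_inv, ← hne]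
    group
  have hodd : Odd s.ncard := by
    letI : MulAction N G :=
      MulAction.compHom G ((ConjAct.toConjAct : G ≃* ConjAct G).toMonoidHom.comp N.subtype)
    have hsmul : ∀ (n : N) (x : G), n • x = (n : G) * x * (n : G)⁻¹ := fun n x => rfl
    have hor : MulAction.orbit N C.t = C.em '' s := by
      ext x
      constructor
      · rintro ⟨n, rfl⟩
        obtain ⟨k, hk, hke⟩ := horb n n.2
        exact ⟨k, hk, by rw [← hke]; exact (hsmul n C.t).symm⟩
      · rintro ⟨k, ⟨-, n, hn, hne⟩, rfl⟩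
        exact ⟨⟨n, hn⟩, by rw [← hne]; exact hsmul _ C.t⟩
    have hidx := MulAction.index_stabilizer N C.t
    rw [hor, Set.ncard_image_of_injective _ C.inj] at hidx
    have hle : (P : Subgroup G).subgroupOf N ≤ MulAction.stabilizer N C.t := by
      intro n hn
      rw [MulAction.mem_stabilizer_iff, hsmul, C.S_comm n (hPS ▸ hn) C.t C.t_mem_S,
        mul_inv_cancel_right]
    have hdvd : s.ncard ∣ (P : Subgroup G).index :=
      hidx ▸ (index_dvd_of_le hle).trans (relIndex_dvd_index_of_le (hPS ▸ le_normalizer))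
    rw [← Nat.not_even_iff_odd, even_iff_two_dvd]
    exact fun h => P.not_dvd_index (h.trans hdvd)
  have hne : s ≠ {M.tM} := by
    intro hs1
    obtain ⟨g, hg, hgne⟩ := C.moved
    obtain ⟨l, hl⟩ := C.surj _ hg.symm
    have hl2 : l * l = 1 := C.inj (by
      rw [map_mul, map_one, hl, conj_mul, C.t_sq, mul_one, mul_inv_cancel])
    have hl1 : l ≠ 1 := fun h => C.t_ne (by
      rw [h, map_one] at hl
      exact conj_eq_one_iff.mp hl.symm)
    obtain ⟨c, hc⟩ := M.invol_conj l hl2 hl1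
    have hy : (C.em c * g) * C.t * (C.em c * g)⁻¹ ∈ (P : Subgroup G) := by
      rw [hPS, show C.em c * g * C.t * (C.em c * g)⁻¹ = C.em c * (g * C.t * g⁻¹) * (C.em c)⁻¹ by
        group, ← hl, ← map_mul, ← map_inv, ← map_mul, C.mem_S]
      exact hc
    obtain ⟨n, hn, hne⟩ := Sylow.conj_eq_normalizer_conj_of_mem P (_hP := hPc) C.t (C.em c * g)⁻¹
      (show C.t ∈ (P : Subgroup G) by rw [hPS]; exact C.t_mem_S) (by rwa [inv_inv])
    rw [inv_inv] at hne
    replace hn : n ∈ N := by rw [hN, ← hPS]; exact hn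
    obtain ⟨m, hm, hme⟩ := horb n⁻¹ (inv_mem hn)
    rw [inv_inv, ← hne] at hme
    rw [hs1, Set.mem_singleton_iff] at hm
    rw [hm, C.em_t] at hme
    refine hgne ?_
    have hcc : (C.em c)⁻¹ * C.t * C.em c = C.t := by
      rw [mul_assoc, ← (C.comm c).eq, inv_mul_cancel_left]
    calc g * C.t * g⁻¹ = (C.em c)⁻¹ * (C.em c * g * C.t * (C.em c * g)⁻¹) * C.em c := by group
      _ = C.t := by rw [hme, hcc]
  have hall := M.orbit s (fun k hk => hk.1) hts hsz hodd hne
  exact (hall ▸ (⟨hk, hk1⟩ : k ∈ {k | k * M.vM = M.vM * k ∧ k ≠ 1}) : k ∈ s).2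

theorem exists_conj_mem_S {w : G} (hw : w * w = 1) :
    ∃ g k, k * M.vM = M.vM * k ∧ g * w * g⁻¹ = C.em k := by
  haveI : Fact (Nat.Prime 2) := ⟨Nat.prime_two⟩
  obtain ⟨P, hPS⟩ := C.exists_sylow
  have hp : IsPGroup 2 (zpowers w) :=
    CfsgLib.LocalEven.zpowers_pow_prime_isPGroup (by rw [sq, hw])
  obtain ⟨Q, hQ⟩ := hp.exists_le_sylow
  obtain ⟨g, hg⟩ := MulAction.exists_smul_eq G Q P
  have h1 : g * w * g⁻¹ ∈ (P : Subgroup G) := by
    rw [← hg, Sylow.coe_subgroup_smul]
    exact ⟨w, hQ (mem_zpowers w), by simp⟩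
  rw [hPS] at h1
  obtain ⟨k, hk, hke⟩ := h1
  exact ⟨g, k, mem_centralizer_singleton_iff.mp hk, hke.symm⟩

/-- One class of involutions. -/
theorem fusion {w : G} (hw : w * w = 1) (hw1 : w ≠ 1) : IsConj C.t w := by
  obtain ⟨g, k, hk, hke⟩ := C.exists_conj_mem_S hw
  have hk1 : k ≠ 1 := by
    rintro rfl
    rw [map_one] at hke
    exact hw1 (conj_eq_one_iff.mp hke)
  obtain ⟨n, -, hn⟩ := C.conj_in_normalizer hk hk1
  exact (isConj_iff.mpr ⟨n, hn⟩).trans (isConj_iff.mpr ⟨g, hke⟩).symm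

omit [Finite G] in
theorem sq_em (k : K) (h : k * k = 1) : C.em k * C.em k = 1 := by rw [← map_mul, h, map_one]

/-- A normal subgroup of odd order is trivial. -/
theorem eq_bot_of_odd {D : Subgroup G} [D.Normal] (hD : Odd (Nat.card D)) : D = ⊥ := by
  haveI : Fact (Nat.Prime 2) := ⟨Nat.prime_two⟩
  have ht : ∀ w, Commute w C.t → w ∈ D → w = 1 := by
    intro w hw hwD
    obtain ⟨k, rfl⟩ := C.surj w hw
    by_contra hne
    have hk1 : k ≠ 1 := fun h => hne (by rw [h, map_one])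
    have hcard : orderOf (C.em k) ∣ Nat.card D := by
      exact D.orderOf_dvd_natCard hwD
    have h15 : k ^ 15 = 1 := by
      have ho : orderOf (C.em k) = orderOf k := orderOf_injective C.em C.inj k
      exact orderOf_dvd_iff_pow_eq_one.mp (M.odd_dvd _ (orderOf_dvd_natCard k)
        (hD.of_dvd_nat (ho ▸ hcard)))
    obtain ⟨c, hc⟩ := M.odd_escape k h15 hk1
    have hcm : C.em (c * k * c⁻¹) ∈ D := by
      rw [map_mul, map_mul, map_inv]
      exact Normal.conj_mem inferInstance _ hwD _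
    have key : ∀ l, C.em l ∈ D → l ≠ 1 → l ^ 2 = 1 → False := fun l hl hl1 hl2 => by
      have h1 := D.orderOf_dvd_natCard hl
      rw [orderOf_eq_prime (p := 2) (by rw [← map_pow, hl2, map_one])
        (fun e => hl1 (C.inj (e.trans (map_one C.em).symm)))] at h1
      rw [Nat.odd_iff] at hD
      omega
    rcases hc with ⟨h1, h2⟩ | ⟨h1, h2⟩
    · exact key _ (by rw [map_mul]; exact mul_mem hwD hcm) h1 h2
    · exact key _ (by rw [map_mul, map_mul]; exact mul_mem (mul_mem hwD hwD) hcm) h1 h2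
  have hfix : ∀ a : G, a * a = 1 → a ≠ 1 →
      Nat.card ↥(D ⊓ centralizer ({a} : Set G)) = 1 := by
    intro a ha ha1
    obtain ⟨g, rfl⟩ := isConj_iff.mp (C.fusion ha ha1)
    rw [Subgroup.card_eq_one, eq_bot_iff]
    rintro x ⟨hxD, hxc⟩
    have hc : Commute x (g * C.t * g⁻¹) := mem_centralizer_singleton_iff.mp hxc
    have h := ht (g⁻¹ * x * g) ?_ (by simpa using Normal.conj_mem inferInstance x hxD g⁻¹)
    · rw [mem_bot]
      simpa [mul_assoc, inv_mul_eq_one, eq_comm] using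
        (show g * (g⁻¹ * x * g) * g⁻¹ = 1 by rw [h]; group)
    · show g⁻¹ * x * g * C.t = C.t * (g⁻¹ * x * g)
      calc g⁻¹ * x * g * C.t = g⁻¹ * (x * (g * C.t * g⁻¹)) * g := by group
        _ = _ := by rw [hc.eq]; group
  set x := C.t
  set y := C.em M.vM
  have hxy : Commute x y := (C.comm M.vM).symm
  have hy2 : y * y = 1 := C.sq_em _ M.v_sq
  have hy1 : y ≠ 1 := fun e => M.v_ne (C.inj (e.trans (map_one C.em).symm))
  have hyx : y * x ≠ 1 := fun e => by
    have h := congrArg (y * ·) e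
    simp only [← mul_assoc, hy2, one_mul, mul_one] at h
    exact M.v_ne_t (C.inj (by rw [C.em_t]; exact h.symm))
  have hD2 : (Nat.card D).Coprime 2 := Nat.coprime_two_right.mpr hD
  have hN : ∀ a : G, a ∈ normalizer (D : Set G) := fun a => by
    rw [normalizer_eq_top]; trivial
  have h := CfsgLib.Cores.brauerWielandt (p := 2) (x := x) (y := y) (by rw [sq, C.t_sq])
    (by rw [sq, hy2]) hxy hD2 (hN x) (hN y)
  rw [Finset.prod_eq_one fun i _ => ?_] at h
  · exact Subgroup.card_eq_one.mp (Nat.eq_one_of_mul_eq_one_right h)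
  · refine hfix _ ?_ ?_
    · match i with
      | none => exact C.t_sq
      | some j =>
        show y * x ^ (j : ℕ) * (y * x ^ (j : ℕ)) = 1
        fin_cases j
        · simpa using hy2
        · simp only [pow_one]
          rw [show y * x * (y * x) = y * (x * y) * x by group, hxy.eq, ← mul_assoc, hy2, one_mul,
            C.t_sq]
    · match i with
      | none => exact C.t_ne
      | some j =>
        show y * x ^ (j : ℕ) ≠ 1
        fin_cases j
        · simpa using hy1
        · simpa using hyx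

/-- A non-trivial normal subgroup contains all involutions. -/
theorem mem_of_normal {D : Subgroup G} [D.Normal] (hD : D ≠ ⊥) {w : G} (hw : w * w = 1) : w ∈ D := by
  haveI : Fact (Nat.Prime 2) := ⟨Nat.prime_two⟩
  have h2 : 2 ∣ Nat.card D := by
    rw [← even_iff_two_dvd, ← Nat.not_odd_iff_even]
    exact fun h => hD (C.eq_bot_of_odd h)
  obtain ⟨a, ha⟩ := exists_prime_orderOf_dvd_card' (G := D) 2 h2
  rw [← orderOf_coe] at ha
  by_cases hw1 : w = 1
  · rw [hw1]; exact one_mem _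
  have ha2 : (a : G) * a = 1 := by rw [← sq, ← ha]; exact pow_orderOf_eq_one _
  have ha1 : (a : G) ≠ 1 := fun h => by rw [h, orderOf_one] at ha; omega
  obtain ⟨g, hg⟩ := isConj_iff.mp ((C.fusion ha2 ha1).symm.trans (C.fusion hw hw1))
  rw [← hg]
  exact Normal.conj_mem inferInstance _ a.2 _

end Cent

end CfsgLib.JankoExt
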