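import Mathlib
import Cfsg.Agent.Lib.JankoExt.Fusion
import Cfsg.Agent.Lib.JankoOne.Section
import Cfsg.Agent.Lib.JankoOne.Support

/-!
# There is no simple group with involution centraliser `2 × A₄`
-/

set_option autoImplicit false
set_option linter.style.haveILetI false

open Subgroup CfsgLib.Char
open scoped ComplexConjugate

namespace CfsgLib.JankoExt

/-- An element of order six in the centre of its centraliser. -/
def h4 : K4 := t4 * z4

theorem h4_facts : h4 ^ 3 = t4 ∧ h4 ^ 6 = 1 ∧ h4 ≠ 1 ∧ h4 * h4 ≠ 1 ∧ h4⁻¹ * h4⁻¹ ≠ 1 := by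
  decide +kernel

theorem h4_not_real : ∀ c : K4, c * h4 * c⁻¹ ≠ h4⁻¹ := by decide +kernel

theorem card_centralizer_h4 : Fintype.card {k : K4 // k * h4 = h4 * k} = 6 := by decide +kernel

theorem card_struct_t4 :
    Fintype.card {u : K4 // u * u = 1 ∧ u ≠ 1 ∧ u * t4 * (u * t4) = 1 ∧ u * t4 ≠ 1} = 6 := by
  decide +kernel

theorem struct_h4 : ∀ u : K4, u * u = 1 → u * h4 * (u * h4) ≠ 1 := by decide +kernel

theorem t4_invol : t4 * t4 = 1 ∧ t4 ≠ 1 := by decide +kernel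

theorem struct_h4' : ∀ u : K4, u * u = 1 → u * h4⁻¹ * (u * h4⁻¹) ≠ 1 := by decide +kernel

namespace Four

variable {G : Type*} [Group G] [Fintype G] (C : Cent G model4)

omit [Fintype G] in
theorem em_t4 : C.em t4 = C.t := C.em_t

omit [Fintype G] in
theorem mem_em_of_pow {k : K4} {n : ℕ} (hk : k ^ n = t4) {g : G} (hg : Commute g (C.em k)) :
    ∃ l, C.em l = g := by
  refine C.surj g ?_
  have := hg.pow_right n
  rwa [← map_pow, hk, em_t4 C] at this

theorem card_cent_h : Nat.card (Subgroup.centralizer ({C.em h4} : Set G)) = 6 := by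
  rw [← card_centralizer_h4, ← Nat.card_eq_fintype_card]
  symm
  refine Nat.card_congr (Equiv.ofBijective
    (fun l => ⟨C.em l.1, mem_centralizer_singleton_iff.mpr (by rw [← map_mul, l.2, map_mul])⟩)
    ⟨fun a b h => Subtype.ext (C.inj (by simpa using congrArg Subtype.val h)), fun g => ?_⟩)
  obtain ⟨l, hl⟩ := mem_em_of_pow C h4_facts.1 (mem_centralizer_singleton_iff.mp g.2)
  exact ⟨⟨l, C.inj (by
    rw [map_mul, map_mul, hl]; exact mem_centralizer_singleton_iff.mp g.2)⟩, Subtype.ext hl⟩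

theorem card_cent_t : Nat.card (Subgroup.centralizer ({C.t} : Set G)) = 24 := by
  rw [← card_K4]
  symm
  refine Nat.card_congr (Equiv.ofBijective
    (fun k => ⟨C.em k, mem_centralizer_singleton_iff.mpr (C.comm k).eq⟩)
    ⟨fun a b h => C.inj (congrArg Subtype.val h), fun g => ?_⟩)
  obtain ⟨k, hk⟩ := C.surj g (mem_centralizer_singleton_iff.mp g.2)
  exact ⟨k, Subtype.ext hk⟩

omit [Fintype G] in
theorem not_conj : ¬IsConj C.t (C.em h4) ∧ ¬IsConj C.t (C.em h4⁻¹) ∧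
    ¬IsConj (C.em h4) (C.em h4⁻¹) := by
  refine ⟨fun h => ?_, fun h => ?_, fun h => ?_⟩
  · obtain ⟨c, hc⟩ := isConj_iff.mp h
    refine h4_facts.2.2.2.1 (C.inj ?_)
    rw [map_mul, map_one, ← hc, conj_mul, C.t_sq, mul_one, mul_inv_cancel]
  · obtain ⟨c, hc⟩ := isConj_iff.mp h
    refine h4_facts.2.2.2.2 (C.inj ?_)
    rw [map_mul, map_one, ← hc, conj_mul, C.t_sq, mul_one, mul_inv_cancel]
  · obtain ⟨c, hc⟩ := isConj_iff.mp h
    have hct : Commute c C.t := by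
      have := congrArg (· ^ 3) hc
      simp only [conj_pow, ← map_pow, inv_pow, h4_facts.1, em_t4 C, map_inv,
        inv_eq_of_mul_eq_one_left C.t_sq] at this
      exact mul_inv_eq_iff_eq_mul.mp this
    obtain ⟨l, rfl⟩ := C.surj c hct
    exact h4_not_real l (C.inj (by rw [map_mul, map_mul, map_inv]; exact hc))

theorem conj_t {χ : G → ℂ} (hχ : Cfsg.IsCharacter G χ) : conj (χ C.t) = χ C.t := by
  rw [← char_inv hχ, inv_eq_of_mul_eq_one_left C.t_sq]

theorem conj_h {χ : G → ℂ} (hχ : Cfsg.IsCharacter G χ) :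
    conj (χ (C.em h4⁻¹)) = χ (C.em h4) ∧ conj (χ (C.em h4)) = χ (C.em h4⁻¹) := by
  constructor
  · rw [← char_inv hχ, map_inv, inv_inv]
  · rw [← char_inv hχ, map_inv]

/-- Second orthogonality for combinations of the three columns. -/
theorem gram (a1 a2 a3 b1 b2 b3 : ℂ) :
    ∑ χ : Cfsg.IrrCharacter G,
      (a1 * χ.1 C.t + a2 * χ.1 (C.em h4) + a3 * χ.1 (C.em h4⁻¹)) *
      (b1 * χ.1 C.t + b2 * χ.1 (C.em h4) + b3 * χ.1 (C.em h4⁻¹)) =
    24 * (a1 * b1) + 6 * (a2 * b3 + a3 * b2) := by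
  classical
  obtain ⟨n1, n2, n3⟩ := not_conj C
  have rt : ∀ χ : Cfsg.IrrCharacter G, conj (χ.1 C.t) = χ.1 C.t :=
    fun χ => conj_t C (isCharacter_of_isIrr χ.2)
  have rh : ∀ χ : Cfsg.IrrCharacter G, conj (χ.1 (C.em h4⁻¹)) = χ.1 (C.em h4) :=
    fun χ => (conj_h C (isCharacter_of_isIrr χ.2)).1
  have rh' : ∀ χ : Cfsg.IrrCharacter G, conj (χ.1 (C.em h4)) = χ.1 (C.em h4⁻¹) :=
    fun χ => (conj_h C (isCharacter_of_isIrr χ.2)).2
  have e11 : ∑ χ : Cfsg.IrrCharacter G, χ.1 C.t * χ.1 C.t = 24 := by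
    have h := second_orthogonality C.t C.t
    simp only [rt, if_pos (IsConj.refl C.t), card_cent_t C] at h
    exact_mod_cast h
  have e23 : ∑ χ : Cfsg.IrrCharacter G, χ.1 (C.em h4) * χ.1 (C.em h4⁻¹) = 6 := by
    have h := second_orthogonality (C.em h4) (C.em h4)
    simp only [rh', if_pos (IsConj.refl (C.em h4)), card_cent_h C] at h
    exact_mod_cast h
  have e12 : ∑ χ : Cfsg.IrrCharacter G, χ.1 C.t * χ.1 (C.em h4) = 0 := by
    have h := second_orthogonality C.t (C.em h4⁻¹)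
    simpa only [rh, if_neg n2] using h
  have e13 : ∑ χ : Cfsg.IrrCharacter G, χ.1 C.t * χ.1 (C.em h4⁻¹) = 0 := by
    have h := second_orthogonality C.t (C.em h4)
    simpa only [rh', if_neg n1] using h
  have e22 : ∑ χ : Cfsg.IrrCharacter G, χ.1 (C.em h4) * χ.1 (C.em h4) = 0 := by
    have h := second_orthogonality (C.em h4) (C.em h4⁻¹)
    simpa only [rh, if_neg n3] using h
  have e33 : ∑ χ : Cfsg.IrrCharacter G, χ.1 (C.em h4⁻¹) * χ.1 (C.em h4⁻¹) = 0 := by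
    have h := second_orthogonality (C.em h4⁻¹) (C.em h4)
    simpa only [rh', if_neg fun e => n3 (IsConj.symm e)] using h
  have hexp : ∀ χ : Cfsg.IrrCharacter G,
      (a1 * χ.1 C.t + a2 * χ.1 (C.em h4) + a3 * χ.1 (C.em h4⁻¹)) *
      (b1 * χ.1 C.t + b2 * χ.1 (C.em h4) + b3 * χ.1 (C.em h4⁻¹)) =
      a1 * b1 * (χ.1 C.t * χ.1 C.t) + a2 * b2 * (χ.1 (C.em h4) * χ.1 (C.em h4)) +
      a3 * b3 * (χ.1 (C.em h4⁻¹) * χ.1 (C.em h4⁻¹)) +
      (a1 * b2 + a2 * b1) * (χ.1 C.t * χ.1 (C.em h4)) +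
      (a1 * b3 + a3 * b1) * (χ.1 C.t * χ.1 (C.em h4⁻¹)) +
      (a2 * b3 + a3 * b2) * (χ.1 (C.em h4) * χ.1 (C.em h4⁻¹)) := fun χ => by ring
  simp only [hexp, Finset.sum_add_distrib, ← Finset.mul_sum, e11, e22, e33, e12, e13, e23]
  ring

/-- The degree equation at the three columns. -/
theorem sum_degree (a1 a2 a3 : ℂ) :
    ∑ χ : Cfsg.IrrCharacter G,
      χ.1 1 * (a1 * χ.1 C.t + a2 * χ.1 (C.em h4) + a3 * χ.1 (C.em h4⁻¹)) = 0 := by
  classical
  have h : ∀ g : G, g ≠ 1 → ∑ χ : Cfsg.IrrCharacter G, χ.1 1 * χ.1 g = 0 := fun g hg => by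
    rw [sum_degree_mul_apply, if_neg hg]
  have hx : C.em h4 ≠ 1 := fun e => h4_facts.2.2.1 (C.inj (e.trans (map_one C.em).symm))
  have hy : C.em h4⁻¹ ≠ 1 := fun e => hx (inv_eq_one.mp ((map_inv C.em h4).symm.trans e))
  simp only [mul_add, mul_left_comm _ a1, mul_left_comm _ a2, mul_left_comm _ a3,
    Finset.sum_add_distrib, ← Finset.mul_sum, h _ C.t_ne, h _ hx, h _ hy, mul_zero, add_zero]

/-- The number of ways of writing an element of the section as a product of two involutions. -/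
theorem count {k : K4} {n : ℕ} (hk : k ^ n = t4) :
    Nat.card {u : G // IsConj C.t u ∧ IsConj C.t (u * C.em k)} =
      Nat.card {u : K4 // u * u = 1 ∧ u ≠ 1 ∧ u * k * (u * k) = 1 ∧ u * k ≠ 1} := by
  have hinvol : ∀ u : G, IsConj C.t u ↔ u * u = 1 ∧ u ≠ 1 := fun u => by
    refine ⟨fun h => ?_, fun h => C.fusion h.1 h.2⟩
    obtain ⟨c, rfl⟩ := isConj_iff.mp h
    exact ⟨by rw [conj_mul, C.t_sq, mul_one, mul_inv_cancel],
      fun e => C.t_ne (conj_eq_one_iff.mp e)⟩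
  symm
  refine Nat.card_congr (Equiv.ofBijective (fun u => ⟨C.em u.1, ?_⟩)
    ⟨fun a b h => Subtype.ext (C.inj (by simpa using congrArg Subtype.val h)), fun g => ?_⟩)
  · obtain ⟨u, h1, h2, h3, h4⟩ := u
    refine ⟨(hinvol _).mpr ⟨C.sq_em _ h1,
      fun e => h2 (C.inj (e.trans (map_one C.em).symm))⟩, (hinvol _).mpr
      ⟨by rw [← map_mul, ← map_mul, h3, map_one],
        fun e => h4 (C.inj (by rw [map_mul, e, map_one]))⟩⟩
  · obtain ⟨u, hu, huz⟩ := g
    obtain ⟨h1, h2⟩ := (hinvol u).mp hu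
    obtain ⟨h3, h4⟩ := (hinvol _).mp huz
    have hui : u⁻¹ = u := inv_eq_of_mul_eq_one_left h1
    have huinv : u * C.em k * u⁻¹ = (C.em k)⁻¹ := by
      refine eq_inv_of_mul_eq_one_left ?_
      rw [hui]
      calc u * C.em k * u * C.em k = u * C.em k * (u * C.em k) := by group
        _ = 1 := h3
    have hut : Commute u C.t := by
      have := congrArg (· ^ n) huinv
      simp only [conj_pow, inv_pow, ← map_pow, hk, em_t4 C,
        inv_eq_of_mul_eq_one_left C.t_sq] at this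
      exact mul_inv_eq_iff_eq_mul.mp this
    obtain ⟨l, rfl⟩ := C.surj u hut
    exact ⟨⟨l, C.inj (by rw [map_mul, map_one, h1]), fun e => h2 (by rw [e, map_one]),
      C.inj (by rw [map_mul, map_mul, map_one, h3]),
      fun e => h4 (by rw [← map_mul, e, map_one])⟩, rfl⟩

/-- The class equations for a combination of the three columns. -/
theorem struct_comb (a1 a2 a3 : ℂ) :
    (Nat.card G : ℂ) * ∑ χ : Cfsg.IrrCharacter G, χ.1 C.t * χ.1 C.t *
        (a1 * χ.1 C.t + a2 * χ.1 (C.em h4) + a3 * χ.1 (C.em h4⁻¹)) / χ.1 1 = 3456 * a1 := by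
  classical
  have key : ∀ z : G, (Nat.card {u : G // IsConj C.t u ∧ IsConj C.t (u * z)} : ℂ) * 576 =
      (Nat.card G : ℂ) * ∑ χ : Cfsg.IrrCharacter G,
        χ.1 C.t * χ.1 C.t * conj (χ.1 z) / χ.1 1 := by
    intro z
    have hm := CfsgLib.CharBlocks.card_conj_mul_isConj C.t C.t z
    rw [← Nat.cast_mul, CfsgLib.JankoOne.card_conj_mul C.t_sq, card_cent_t C] at hm
    rw [← hm]
    push_cast
    ring
  have h1 : (Nat.card G : ℂ) * ∑ χ : Cfsg.IrrCharacter G,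
      χ.1 C.t * χ.1 C.t * χ.1 C.t / χ.1 1 = 3456 := by
    have hc := count C (k := t4) (n := 1) (pow_one t4)
    rw [em_t4 C, Nat.card_eq_fintype_card (α := {u : K4 // _}), card_struct_t4] at hc
    have h := key C.t
    rw [hc, Finset.sum_congr rfl fun χ _ => by
      rw [conj_t C (isCharacter_of_isIrr χ.2)]] at h
    rw [← h]; norm_num
  have hzero : ∀ k : K4, ∀ n : ℕ, k ^ n = t4 → (∀ u : K4, u * u = 1 → u * k * (u * k) ≠ 1) →
      Nat.card {u : G // IsConj C.t u ∧ IsConj C.t (u * C.em k)} = 0 := by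
    intro k n hk hno
    rw [count C hk]
    haveI : IsEmpty {u : K4 // u * u = 1 ∧ u ≠ 1 ∧ u * k * (u * k) = 1 ∧ u * k ≠ 1} :=
      ⟨fun u => hno u.1 u.2.1 u.2.2.2.1⟩
    exact Nat.card_of_isEmpty
  have h2 : (Nat.card G : ℂ) * ∑ χ : Cfsg.IrrCharacter G,
      χ.1 C.t * χ.1 C.t * χ.1 (C.em h4) / χ.1 1 = 0 := by
    have h := key (C.em h4⁻¹)
    rw [hzero h4⁻¹ 3 (by rw [inv_pow, h4_facts.1]; decide +kernel) struct_h4',
      Finset.sum_congr rfl fun χ _ => by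
        rw [(conj_h C (isCharacter_of_isIrr χ.2)).1]] at h
    rw [← h]; norm_num
  have h3 : (Nat.card G : ℂ) * ∑ χ : Cfsg.IrrCharacter G,
      χ.1 C.t * χ.1 C.t * χ.1 (C.em h4⁻¹) / χ.1 1 = 0 := by
    have h := key (C.em h4)
    rw [hzero h4 3 h4_facts.1 struct_h4, Finset.sum_congr rfl fun χ _ => by
      rw [(conj_h C (isCharacter_of_isIrr χ.2)).2]] at h
    rw [← h]; norm_num
  have hexp : ∀ χ : Cfsg.IrrCharacter G, χ.1 C.t * χ.1 C.t *
        (a1 * χ.1 C.t + a2 * χ.1 (C.em h4) + a3 * χ.1 (C.em h4⁻¹)) / χ.1 1 =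
      a1 * (χ.1 C.t * χ.1 C.t * χ.1 C.t / χ.1 1) +
      a2 * (χ.1 C.t * χ.1 C.t * χ.1 (C.em h4) / χ.1 1) +
      a3 * (χ.1 C.t * χ.1 C.t * χ.1 (C.em h4⁻¹) / χ.1 1) := fun χ => by ring
  simp only [hexp, Finset.sum_add_distrib, ← Finset.mul_sum]
  linear_combination a1 * h1 + a2 * h2 + a3 * h3

/-- The multiplicities. -/
theorem exists_mult : ∃ (μ : ℂ) (A B D : Cfsg.IrrCharacter G → ℤ),
    μ ^ 2 + μ + 1 = 0 ∧
    (∀ χ, (A χ : ℂ) = 1 / 3 * χ.1 C.t + 1 / 3 * χ.1 (C.em h4) + 1 / 3 * χ.1 (C.em h4⁻¹)) ∧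
    (∀ χ, (B χ : ℂ) = 1 / 3 * χ.1 C.t + μ / 3 * χ.1 (C.em h4) + μ ^ 2 / 3 * χ.1 (C.em h4⁻¹)) ∧
    (∀ χ, (D χ : ℂ) = 1 / 3 * χ.1 C.t + μ ^ 2 / 3 * χ.1 (C.em h4) + μ / 3 * χ.1 (C.em h4⁻¹)) := by
  obtain ⟨μ, hp⟩ : ∃ μ : ℂ, IsPrimitiveRoot μ 3 := ⟨_, Complex.isPrimitiveRoot_exp 3 (by norm_num)⟩
  have hμ : μ ^ 3 = 1 := hp.pow_eq_one
  have hsum : μ ^ 2 + μ + 1 = 0 := by
    have hs := hp.geom_sum_eq_zero (by norm_num)
    simp only [Finset.sum_range_succ, Finset.sum_range_zero, zero_add, pow_zero, pow_one] at hs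
    linear_combination hs
  have key : ∀ ω : ℂ, ω ^ 3 = 1 → ∀ χ : Cfsg.IrrCharacter G, ∃ k : ℤ,
      (k : ℂ) = 1 / 3 * χ.1 C.t + ω / 3 * χ.1 (C.em h4) + ω ^ 2 / 3 * χ.1 (C.em h4⁻¹) := by
    intro ω hω χ
    obtain ⟨k, hk⟩ := CfsgLib.JankoOne.exists_int_oddSum (isCharacter_of_isIrr χ.2) (n := 3)
      (by norm_num) (by decide) (h := C.em h4)
      (by rw [← map_pow, show 2 * 3 = 6 from rfl, h4_facts.2.1, map_one]) hω
    refine ⟨k, ?_⟩
    simp only [Finset.sum_range_succ, Finset.sum_range_zero, zero_add, Nat.mul_zero, pow_one,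
      show 2 * 1 + 1 = 3 from rfl, show 2 * 2 + 1 = 5 from rfl] at hk
    have e3 : C.em h4 ^ 3 = C.t := by rw [← map_pow, h4_facts.1, em_t4 C]
    have e5 : C.em h4 ^ 5 = C.em h4⁻¹ := by
      rw [← map_pow]
      exact congrArg _ (eq_inv_of_mul_eq_one_left (by rw [← pow_succ]; exact h4_facts.2.1))
    rw [e3, e5, hω, show ω ^ 5 = ω ^ 2 by rw [show (5 : ℕ) = 3 + 2 from rfl, pow_add, hω, one_mul],
      Nat.cast_ofNat] at hk
    linear_combination -(1 / 3 : ℂ) * hk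
  choose A hA using key 1 (one_pow 3)
  choose B hB using key μ hμ
  choose D hD using key (μ ^ 2) (by rw [← pow_mul, mul_comm, pow_mul, hμ, one_pow])
  refine ⟨μ, A, B, D, hsum, fun χ => ?_, hB, fun χ => ?_⟩
  · rw [hA]; ring
  · rw [hD, ← pow_mul, show 2 * 2 = 3 + 1 from rfl, pow_add, hμ, one_mul, pow_one]

theorem congr_eight {χ : G → ℂ} (hχ : Cfsg.IsCharacter G χ) :
    ∃ k : ℕ, χ 1 + 7 * χ C.t = 8 * (k : ℂ) := by
  classical
  obtain ⟨k, hk'⟩ := classInner_char_nat (G := C.S) (φ := fun s : C.S => χ s)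
    (isCharacter_res C.S hχ) isCharacter_one
  rw [classInner_one_right, C.card_S] at hk'
  refine ⟨k, ?_⟩
  have hval : ∀ s : C.S, χ s = if s = 1 then χ 1 else χ C.t := by
    intro s
    split_ifs with h
    · rw [h, coe_one]
    · obtain ⟨l, hl, hle⟩ := s.2
      refine (isClassFunction_iff.mp (isClassFunction_of_isCharacter hχ) _ _
        (C.fusion ?_ fun e => h (Subtype.ext e))).symm
      rw [← hle]
      exact C.sq_em l (cv_sq4 l (mem_centralizer_singleton_iff.mp hl))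
  rw [Finset.sum_congr rfl fun s _ => hval s, Finset.sum_ite, Finset.filter_eq',
    if_pos (Finset.mem_univ _), Finset.sum_singleton, Finset.sum_const, Finset.filter_ne',
    Finset.card_erase_of_mem (Finset.mem_univ _), Finset.card_univ, ← Nat.card_eq_fintype_card,
    C.card_S] at hk'
  norm_num at hk'
  linear_combination 8 * hk'

theorem norm_lt [IsSimpleGroup G] {χ : Cfsg.IrrCharacter G} (hne : χ ≠ irrOne) {n : ℕ}
    (hn : χ.1 1 = n) : ‖χ.1 C.t‖ < n := by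
  obtain ⟨χ, m, ρ, hirr, rfl⟩ := χ
  dsimp only at hn ⊢
  have hdim : Module.finrank ℂ (Fin m → ℂ) = n := by
    rw [ρ.char_one] at hn
    exact_mod_cast hn
  have hle := norm_character_le ρ C.t
  rw [hdim] at hle
  refine lt_of_le_of_ne hle fun he => ?_
  obtain ⟨ω, hω⟩ := (norm_character_eq_iff ρ C.t).mp (by rw [he, hdim])
  set K : Subgroup G := ρ.ker with hK
  have hcomm : ∀ g, C.t * g * C.t⁻¹ * g⁻¹ ∈ K := fun g => by
    show ρ (C.t * g * C.t⁻¹ * g⁻¹) = 1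
    have h1 : ρ C.t * ρ g = ρ g * ρ C.t := by
      rw [hω]; ext v; simp
    rw [map_mul, map_mul, map_mul, h1, mul_assoc (ρ g), ← map_mul, mul_inv_cancel, map_one, mul_one,
      ← map_mul, mul_inv_cancel, map_one]
  rcases IsSimpleGroup.eq_bot_or_eq_top_of_normal K inferInstance with h | h
  · obtain ⟨g, -, hgne⟩ := C.moved
    have := hcomm g
    rw [h, mem_bot, mul_inv_eq_one] at this
    apply hgne
    rw [← mul_inv_eq_iff_eq_mul.mp this, mul_inv_cancel_right]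
  · have hone : ∀ g, ρ g = 1 := fun g => (show g ∈ K by rw [h]; exact mem_top g)
    have hm : (ρ.character : G → ℂ) = fun _ => (n : ℂ) := by
      funext g
      rw [Representation.character, hone, ← map_one ρ]
      exact ρ.char_one.trans (by rw [hdim])
    have hn1 : n = 1 := by
      have hs := classInner_irr_self (G := G) (φ := ρ.character) ⟨m, ρ, hirr, rfl⟩
      rw [classInner_def, hm] at hs
      simp only [map_natCast, Finset.sum_const, Finset.card_univ, nsmul_eq_mul,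
        ← Nat.card_eq_fintype_card] at hs
      have hG : (Nat.card G : ℂ) ≠ 0 := card_ne_zero'
      field_simp at hs
      have : n ^ 2 = 1 := by exact_mod_cast hs
      exact Nat.pow_left_injective two_ne_zero (by simpa using this)
    refine hne (Subtype.ext ?_)
    funext g
    rw [irrOne_apply]
    show ρ.character g = 1
    rw [hm, hn1, Nat.cast_one]

end Four

end CfsgLib.JankoExt
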