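import Mathlib
import Cfsg.Agent.Lib.JankoExt.FourColumns

/-!
# The arithmetic against a simple group with involution centraliser `2 × A₄`
-/

set_option autoImplicit false

open CfsgLib.Char
open scoped ComplexConjugate

namespace CfsgLib.JankoExt

/-- The three signed degrees of the second multiplicity. -/
theorem signed_degrees {u r p : ℤ} (hs : u + r + p = -1) (hu : u % 8 = 2) (hu2 : 2 < |u|)
    (hr : r % 8 = 6) (hr2 : 2 < |r|) (hp : p % 8 = 7) (hp2 : 1 < |p|)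
    (he : 1 + (4 / (u : ℚ) + 4 / (r : ℚ) + 1 / (p : ℚ)) = 0) : u = -6 ∧ r = -10 ∧ p = 15 := by
  have hu0 : (u : ℚ) ≠ 0 := by
    have : u ≠ 0 := by omega
    exact_mod_cast this
  have hr0 : (r : ℚ) ≠ 0 := by
    have : r ≠ 0 := by omega
    exact_mod_cast this
  have hp0 : (p : ℚ) ≠ 0 := by
    have : p ≠ 0 := by omega
    exact_mod_cast this
  have hp7 : p ≤ -7 ∨ 7 ≤ p := by
    rcases lt_abs.mp hp2 with h | h <;> omega
  have hu6 : u ≤ -6 ∨ 10 ≤ u := by
    rcases lt_abs.mp hu2 with h | h <;> omega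
  have hr6 : r ≤ -10 ∨ 6 ≤ r := by
    rcases lt_abs.mp hr2 with h | h <;> omega
  have low : ∀ (x : ℤ) (m : ℤ), 0 < m → (x ≤ -m ∨ m ≤ x) → -(1 / (m : ℚ)) ≤ 1 / (x : ℚ) := by
    intro x m hm hx
    have hmq : (0 : ℚ) < m := by exact_mod_cast hm
    rcases hx with h | h
    · rw [show (1 : ℚ) / x = -(1 / (-(x : ℚ))) by ring, neg_le_neg_iff]
      exact one_div_le_one_div_of_le hmq (by exact_mod_cast (by omega : m ≤ -x))
    · have : (0 : ℚ) < x := by exact_mod_cast (by omega : 0 < x)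
      have h1 : 0 < 1 / (m : ℚ) := by positivity
      have h2 : 0 < 1 / (x : ℚ) := by positivity
      linarith
  have pos : ∀ x : ℤ, 0 < x → 0 < 1 / (x : ℚ) := fun x hx => by
    have : (0 : ℚ) < x := by exact_mod_cast hx
    positivity
  have e : 1 + (4 * (1 / (u : ℚ)) + 4 * (1 / (r : ℚ)) + 1 / (p : ℚ)) = 0 := by
    rw [← he]; ring
  have bu := low u 6 (by norm_num) (by omega)
  have br := low r 6 (by norm_num) (by omega)
  have bp := low p 7 (by norm_num) hp7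
  push_cast at bu br bp
  -- both signed degrees are negative
  have hu' : u ≤ -6 := by
    rcases hu6 with h | h
    · exact h
    · have := pos u (by omega); linarith
  have hr' : r ≤ -10 := by
    rcases hr6 with h | h
    · exact h
    · have := pos r (by omega); linarith
  have hp' := pos p (by omega)
  have bound : ∀ x : ℤ, x < 0 → ∀ m : ℤ, x ≤ m → m < 0 → (1 : ℚ) / m ≤ 1 / x := by
    intro x hx m hm hm0
    rw [one_div_le_one_div_of_neg (by exact_mod_cast hm0) (by exact_mod_cast hx)]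
    exact_mod_cast hm
  have br10 := bound r (by omega) (-10) hr' (by norm_num)
  push_cast at br10
  have hu6' : u = -6 := by
    by_contra hne
    have := bound u (by omega) (-14) (by omega) (by norm_num)
    push_cast at this
    linarith
  subst hu6'
  have : r = -10 := by
    by_contra hne
    have := bound r (by omega) (-18) (by omega) (by norm_num)
    push_cast at e this
    linarith
  exact ⟨rfl, this, by omega⟩

section Arith

variable {ι : Type*} [DecidableEq ι] {J : Finset ι} {f h h' n : ι → ℤ}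

/-- The arithmetic of the three multiplicity vectors. -/
theorem no_table {g : ℕ} (hn : ∀ i ∈ J, 0 < n i) (hdvd : ∀ i ∈ J, n i ∣ (g : ℤ))
    (hcong : ∀ i ∈ J, 8 ∣ n i - (3 * f i - h i - h' i))
    (hlt : ∀ i ∈ J, |3 * f i - h i - h' i| < n i)
    (ff : ∑ i ∈ J, f i * f i = 3) (hh : ∑ i ∈ J, h i * h i = 3) (hh' : ∑ i ∈ J, h' i * h' i = 3)
    (fh : ∑ i ∈ J, f i * h i = 1) (fh' : ∑ i ∈ J, f i * h' i = 1) (hxh : ∑ i ∈ J, h i * h' i = 1)
    (fn : ∑ i ∈ J, f i * n i = -1) (hnn : ∑ i ∈ J, h i * n i = -1)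
    (hn' : ∑ i ∈ J, h' i * n i = -1)
    (sf : (g : ℚ) * (1 + ∑ i ∈ J, (f i : ℚ) *
      (((3 * f i - h i - h' i : ℤ) : ℚ) ^ 2 / (n i : ℚ))) = 1152)
    (sh : 1 + ∑ i ∈ J, (h i : ℚ) * (((3 * f i - h i - h' i : ℤ) : ℚ) ^ 2 / (n i : ℚ)) = 0)
    (sh' : 1 + ∑ i ∈ J, (h' i : ℚ) * (((3 * f i - h i - h' i : ℤ) : ℚ) ^ 2 / (n i : ℚ)) = 0) :
    False := by
  have bf := fun {i} => JankoOne.abs_le_one_of_sum_sq (i := i) le_rfl ff
  have bh := fun {i} => JankoOne.abs_le_one_of_sum_sq (i := i) le_rfl hh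
  have bh' := fun {i} => JankoOne.abs_le_one_of_sum_sq (i := i) le_rfl hh'
  obtain ⟨k, hk, hfk, hhk, uk⟩ := JankoOne.common ff hh fh hn (by rw [fn, hnn])
  obtain ⟨l, hl, hfl, hh'l, ul⟩ := JankoOne.common ff hh' fh' hn (by rw [fn, hn'])
  obtain ⟨r, hr, hhr, hh'r, ur⟩ := JankoOne.common hh hh' hxh hn (by rw [hnn, hn'])
  have hhk0 : h k ≠ 0 := hhk ▸ hfk
  have hh'l0 : h' l ≠ 0 := hh'l ▸ hfl
  have hh'r0 : h' r ≠ 0 := hh'r ▸ hhr
  by_cases hkl : k = l
  · -- one common place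
    subst hkl
    obtain rfl : k = r := ur k hk hhk0 hh'l0
    obtain ⟨i, hi, j, hj, hki, hkj, hij, hhi, hhj, hsupp, hsum⟩ :=
      JankoOne.triple_support hh hk hhk0
    have z : ∀ a ∈ J, h a ≠ 0 → a ≠ k → f a = 0 ∧ h' a = 0 := fun a ha h1 h2 =>
      ⟨not_not.mp fun e => h2 (uk a ha e h1), not_not.mp fun e => h2 (ur a ha h1 e)⟩
    obtain ⟨fi, h'i⟩ := z i hi hhi hki.symm
    obtain ⟨fj, h'j⟩ := z j hj hhj hkj.symm
    have es := hsum fun a => (((3 * f a - h a - h' a : ℤ) : ℚ) ^ 2 / (n a : ℚ))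
    rw [es, fi, h'i, fj, h'j, hh'l, hhk] at sh
    have hd : ∀ a ∈ J, ∀ e : ℤ, (e = 1 ∨ e = -1) → 3 * f a - h a - h' a = e →
        (n a : ℚ) ≥ 7 := fun a ha e he hτ => by
      have h1 := hcong a ha
      have h2 := hlt a ha
      have h3 := hn a ha
      rw [hτ] at h1 h2
      have : (7 : ℤ) ≤ n a := by
        rcases he with rfl | rfl <;> simp at h2 <;> omega
      exact_mod_cast this
    have nk := hd k hk (f k) ((bf hk).resolve_left hfk) (by rw [hhk, hh'l]; ring)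
    have ni := hd i hi (-h i) (by rcases (bh hi).resolve_left hhi with e | e <;> simp [e])
      (by rw [fi, h'i]; ring)
    have nj := hd j hj (-h j) (by rcases (bh hj).resolve_left hhj with e | e <;> simp [e])
      (by rw [fj, h'j]; ring)
    have bound : ∀ (a : ℤ) (x : ℚ) (m : ℚ), (a = 1 ∨ a = -1) → x ^ 2 = 1 → m ≥ 7 →
        -(1 / 7 : ℚ) ≤ (a : ℚ) * (x ^ 2 / m) := by
      intro a x m ha hx hm
      rw [hx]
      have h1 : 1 / m ≤ 1 / 7 := one_div_le_one_div_of_le (by norm_num) hm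
      have h2 : 0 ≤ 1 / m := by positivity
      rcases ha with rfl | rfl <;> push_cast <;> linarith
    have sq1 : ∀ e : ℤ, (e = 1 ∨ e = -1) → ((e : ℚ)) ^ 2 = 1 := fun e he => by
      rcases he with rfl | rfl <;> norm_num
    have b1 := bound (f k) ((3 * f k - f k - f k : ℤ) : ℚ) (n k) ((bf hk).resolve_left hfk)
      (sq1 _ (by rcases (bf hk).resolve_left hfk with e | e <;> rw [e] <;> norm_num)) nk
    have b2 := bound (h i) ((3 * 0 - h i - 0 : ℤ) : ℚ) (n i) ((bh hi).resolve_left hhi)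
      (sq1 _ (by rcases (bh hi).resolve_left hhi with e | e <;> rw [e] <;> norm_num)) ni
    have b3 := bound (h j) ((3 * 0 - h j - 0 : ℤ) : ℚ) (n j) ((bh hj).resolve_left hhj)
      (sq1 _ (by rcases (bh hj).resolve_left hhj with e | e <;> rw [e] <;> norm_num)) nj
    linarith
  have hrk : r ≠ k := fun e => hkl (ul k hk hfk (e ▸ hh'r0))
  have hrl : r ≠ l := fun e => hkl (uk l hl hfl (e ▸ hhr)).symm
  have h'k : h' k = 0 := not_not.mp fun e => hkl (ul k hk hfk e)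
  have hl0 : h l = 0 := not_not.mp fun e => hkl (uk l hl hfl e).symm
  have fr : f r = 0 := not_not.mp fun e => hrk (uk r hr e hhr)
  have mem_cases : ∀ {a b : ℤ}, (a = 1 ∨ a = -1) → a * b = 0 → b = 0 := fun ha hab => by
    rcases ha with rfl | rfl <;> omega
  -- the signed degrees of one vector
  have signed : ∀ (hA : ι → ℤ) (hB : ι → ℤ) (k : ι), k ∈ J → f k ≠ 0 → hA k = f k → hB k = 0 →
      hA r ≠ 0 → hB r = hA r → r ≠ k → (∀ a ∈ J, f a ≠ 0 → hA a ≠ 0 → a = k) →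
      (∀ a ∈ J, hA a ≠ 0 → hB a ≠ 0 → a = r) →
      (∑ a ∈ J, hA a * hA a = 3) → (∑ a ∈ J, hA a * n a = -1) →
      (∀ a, hA a + hB a = h a + h' a) →
      1 + ∑ a ∈ J, (hA a : ℚ) * (((3 * f a - h a - h' a : ℤ) : ℚ) ^ 2 / (n a : ℚ)) = 0 →
      f k * n k = -6 ∧ ∃ p ∈ J, n p = 15 := by
    intro hA hB k hk hfk hAk hBk hAr hBr hrk huk hur hAA hAn hadd hst
    obtain ⟨i, hi, j, hj, hki, hkj, hij, hAi, hAj, hsupp, hsum⟩ :=
      JankoOne.triple_support hAA hk (hAk ▸ hfk)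
    obtain ⟨p, hp, hpk, hpr, hAp, hsum'⟩ : ∃ p ∈ J, p ≠ k ∧ p ≠ r ∧ hA p ≠ 0 ∧
        ∀ φ : ι → ℚ, ∑ a ∈ J, (hA a : ℚ) * φ a = hA k * φ k + hA r * φ r + hA p * φ p := by
      rcases hsupp r hr hAr with e | e | e
      · exact absurd e hrk
      · subst e; exact ⟨j, hj, hkj.symm, hij.symm, hAj, hsum⟩
      · subst e; exact ⟨i, hi, hki.symm, hij, hAi, fun φ => by rw [hsum φ]; ring⟩
    have fp : f p = 0 := not_not.mp fun e => hpk (huk p hp e hAp)
    have hBp : hB p = 0 := not_not.mp fun e => hpr (hur p hp hAp e)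
    have fr : f r = 0 := fr
    have ak := (bf hk).resolve_left hfk
    have ar := (JankoOne.abs_le_one_of_sum_sq le_rfl hAA hr).resolve_left hAr
    have ap := (JankoOne.abs_le_one_of_sum_sq le_rfl hAA hp).resolve_left hAp
    have τk : 3 * f k - h k - h' k = 2 * f k := by have := hadd k; omega
    have τr : 3 * f r - h r - h' r = -2 * hA r := by have := hadd r; omega
    have τp : 3 * f p - h p - h' p = -hA p := by have := hadd p; omega
    have ck := hcong k hk; have lk := hlt k hk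
    have cr := hcong r hr; have lr := hlt r hr
    have cp := hcong p hp; have lp := hlt p hp
    rw [τk] at ck lk; rw [τr] at cr lr; rw [τp] at cp lp
    have hw := hsum' fun a => (n a : ℚ)
    have hwZ : hA k * n k + hA r * n r + hA p * n p = -1 := by
      have e1 : (∑ a ∈ J, (hA a : ℚ) * (n a : ℚ)) = -1 := by exact_mod_cast hAn
      rw [e1] at hw
      exact_mod_cast hw.symm
    rw [hsum', τk, τr, τp, hAk] at hst
    rw [hAk] at hwZ
    have hnk := hn k hk; have hnr := hn r hr; have hnp := hn p hp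
    have key := signed_degrees (u := f k * n k) (r := hA r * n r) (p := hA p * n p) hwZ
      (by rcases ak with e | e <;> rw [e] at ck lk ⊢ <;> simp at lk <;> omega)
      (by rcases ak with e | e <;> rw [e] at ck lk ⊢ <;> simp at lk ⊢ <;> rw [abs_of_pos hnk] <;> omega)
      (by rcases ar with e | e <;> rw [e] at cr lr ⊢ <;> simp at lr <;> omega)
      (by rcases ar with e | e <;> rw [e] at cr lr ⊢ <;> simp at lr ⊢ <;> rw [abs_of_pos hnr] <;> omega)
      (by rcases ap with e | e <;> rw [e] at cp lp ⊢ <;> simp at lp <;> omega)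
      (by rcases ap with e | e <;> rw [e] at cp lp ⊢ <;> simp at lp ⊢ <;> rw [abs_of_pos hnp] <;> omega)
      (by
        rw [← hst]
        push_cast
        rcases ak with e | e <;> rcases ar with e' | e' <;> rcases ap with e'' | e'' <;>
          rw [e, e', e''] <;> push_cast <;> ring)
    refine ⟨key.1, p, hp, ?_⟩
    rcases ap with e | e <;> rw [e] at key <;> omega
  obtain ⟨ek, p, hp, hp15⟩ := signed h h' k hk hfk hhk h'k hhr hh'r hrk uk
    (fun a ha h1 h2 => ur a ha h1 h2) hh hnn (fun a => rfl) sh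
  obtain ⟨el, -⟩ := signed h' h l hl hfl hh'l hl0 hh'r0 hh'r.symm hrl ul
    (fun a ha h1 h2 => ur a ha h2 h1) hh' hn' (fun a => add_comm _ _) sh'
  obtain ⟨i, hi, j, hj, hki, hkj, hij, hfi, hfj, hsupp, hsum⟩ := JankoOne.triple_support ff hk hfk
  obtain ⟨w, hw, hwk, hwl, hfw, hsum'⟩ : ∃ w ∈ J, w ≠ k ∧ w ≠ l ∧ f w ≠ 0 ∧
      ∀ φ : ι → ℚ, ∑ a ∈ J, (f a : ℚ) * φ a = f k * φ k + f l * φ l + f w * φ w := by
    rcases hsupp l hl hfl with e | e | e
    · exact absurd e.symm hkl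
    · subst e; exact ⟨j, hj, hkj.symm, hij.symm, hfj, hsum⟩
    · subst e; exact ⟨i, hi, hki.symm, hij, hfi, fun φ => by rw [hsum φ]; ring⟩
  have hw1 : h w = 0 := not_not.mp fun e => hwk (uk w hw hfw e)
  have hw2 : h' w = 0 := not_not.mp fun e => hwl (ul w hw hfw e)
  have hwn : f k * n k + f l * n l + f w * n w = -1 := by
    have e1 : (∑ a ∈ J, (f a : ℚ) * (n a : ℚ)) = -1 := by exact_mod_cast fn
    rw [hsum'] at e1
    exact_mod_cast e1
  have ew : f w * n w = 11 := by omega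
  rw [hsum', hhk, h'k, hh'l, hl0, hw1, hw2] at sf
  have hg : g = 2376 := by
    have nk : (n k : ℚ) ≠ 0 := by exact_mod_cast (hn k hk).ne'
    rcases (bf hk).resolve_left hfk with e | e <;> rw [e] at ek <;>
      rcases (bf hl).resolve_left hfl with e' | e' <;> rw [e'] at el <;>
      rcases (bf hw).resolve_left hfw with e'' | e'' <;> rw [e''] at ew <;>
      (have := hn k hk; have := hn l hl; have := hn w hw)
    all_goals first
      | omega
      | skip
    all_goals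
      have k6 : n k = 6 := by omega
      have l6 : n l = 6 := by omega
      have w11 : n w = 11 := by omega
      rw [e, e', e'', k6, l6, w11] at sf
      push_cast at sf
      have : (g : ℚ) = 2376 := by linarith
      exact_mod_cast this
  have := hdvd p hp
  rw [hp15, hg] at this
  norm_num at this

end Arith

namespace Four

variable {G : Type*} [Group G] [Fintype G] (C : Cent G model4)

/-- No simple group has an involution centraliser `2 × A₄`. -/
theorem not_simple [IsSimpleGroup G] (C : Cent G model4) : False := by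
  classical
  obtain ⟨μ, A, B, D, hμ, hA, hB, hD⟩ := exists_mult C
  choose n hn0 hn using fun χ : Cfsg.IrrCharacter G => exists_degree_pos χ.2
  let h : Cfsg.IrrCharacter G → ℤ := fun χ => A χ - B χ
  let h' : Cfsg.IrrCharacter G → ℤ := fun χ => A χ - D χ
  have hh1 : ∀ χ, (h χ : ℂ) = 0 * χ.1 C.t + (1 - μ) / 3 * χ.1 (C.em h4) +
      (1 - μ ^ 2) / 3 * χ.1 (C.em h4⁻¹) := fun χ => by
    simp only [h]; push_cast; rw [hA, hB]; ring
  have hh2 : ∀ χ, (h' χ : ℂ) = 0 * χ.1 C.t + (1 - μ ^ 2) / 3 * χ.1 (C.em h4) +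
      (1 - μ) / 3 * χ.1 (C.em h4⁻¹) := fun χ => by
    simp only [h']; push_cast; rw [hA, hD]; ring
  let τ : Cfsg.IrrCharacter G → ℤ := fun χ => 3 * A χ - h χ - h' χ
  have hτ : ∀ χ, (τ χ : ℂ) = χ.1 C.t := fun χ => by
    simp only [τ]
    push_cast
    rw [hA, hh1, hh2]
    linear_combination (1 / 3 : ℂ) * (χ.1 (C.em h4) + χ.1 (C.em h4⁻¹)) * hμ
  let o : Cfsg.IrrCharacter G := irrOne
  have ho : ∀ g, o.1 g = 1 := fun g => irrOne_apply g
  have one_of : ∀ (U : Cfsg.IrrCharacter G → ℤ) (a1 a2 a3 : ℂ),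
      (∀ χ, (U χ : ℂ) = a1 * χ.1 C.t + a2 * χ.1 (C.em h4) + a3 * χ.1 (C.em h4⁻¹)) →
      a1 + a2 + a3 = 1 → U o = 1 := by
    intro U a1 a2 a3 hU hsum
    have : (U o : ℂ) = 1 := by rw [hU, ho, ho, ho]; linear_combination hsum
    exact_mod_cast this
  have oA := one_of A _ _ _ hA (by norm_num)
  have oh := one_of h _ _ _ hh1 (by linear_combination (-1 / 3 : ℂ) * hμ)
  have oh' := one_of h' _ _ _ hh2 (by linear_combination (-1 / 3 : ℂ) * hμ)
  have on : n o = 1 := by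
    have := hn o
    rw [ho] at this
    exact_mod_cast this.symm
  have hτo : τ o = 1 := by
    have := hτ o
    rw [ho] at this
    exact_mod_cast this
  let J := Finset.univ.erase o
  have hprod : ∀ (U V : Cfsg.IrrCharacter G → ℤ) (a1 a2 a3 b1 b2 b3 : ℂ),
      (∀ χ, (U χ : ℂ) = a1 * χ.1 C.t + a2 * χ.1 (C.em h4) + a3 * χ.1 (C.em h4⁻¹)) →
      (∀ χ, (V χ : ℂ) = b1 * χ.1 C.t + b2 * χ.1 (C.em h4) + b3 * χ.1 (C.em h4⁻¹)) →
      U o = 1 → V o = 1 → ∀ r : ℤ, 24 * (a1 * b1) + 6 * (a2 * b3 + a3 * b2) = (r : ℂ) + 1 →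
      ∑ χ ∈ J, U χ * V χ = r := by
    intro U V a1 a2 a3 b1 b2 b3 hU hV hUo hVo r hr
    have e : ((∑ χ, U χ * V χ : ℤ) : ℂ) = ((r + 1 : ℤ) : ℂ) := by
      push_cast
      simp only [hU, hV]
      rw [gram C, hr]
    rw [← Finset.sum_erase_add Finset.univ _ (Finset.mem_univ o), hUo, hVo] at e
    have e' : (∑ χ ∈ J, U χ * V χ) + 1 * 1 = r + 1 := by exact_mod_cast e
    omega
  have hdeg : ∀ (U : Cfsg.IrrCharacter G → ℤ) (a1 a2 a3 : ℂ),
      (∀ χ, (U χ : ℂ) = a1 * χ.1 C.t + a2 * χ.1 (C.em h4) + a3 * χ.1 (C.em h4⁻¹)) →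
      U o = 1 → ∑ χ ∈ J, U χ * (n χ : ℤ) = -1 := by
    intro U a1 a2 a3 hU hUo
    have e : ((∑ χ, U χ * (n χ : ℤ) : ℤ) : ℂ) = 0 := by
      push_cast
      rw [← sum_degree C a1 a2 a3]
      exact Finset.sum_congr rfl fun χ _ => by rw [hU, hn, mul_comm]
    rw [← Finset.sum_erase_add Finset.univ _ (Finset.mem_univ o), hUo] at e
    have e' : (∑ χ ∈ J, U χ * (n χ : ℤ)) + 1 * (n o : ℤ) = 0 := by exact_mod_cast e
    rw [on] at e'
    push_cast at e'
    omega
  have hstruct : ∀ (U : Cfsg.IrrCharacter G → ℤ) (a1 a2 a3 : ℂ),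
      (∀ χ, (U χ : ℂ) = a1 * χ.1 C.t + a2 * χ.1 (C.em h4) + a3 * χ.1 (C.em h4⁻¹)) →
      U o = 1 → ∀ R : ℚ, 3456 * a1 = (R : ℂ) →
      (Nat.card G : ℚ) * (1 + ∑ χ ∈ J, (U χ : ℚ) *
        (((3 * A χ - h χ - h' χ : ℤ) : ℚ) ^ 2 / ((n χ : ℤ) : ℚ))) = R := by
    intro U a1 a2 a3 hU hUo R hR
    have e : (((Nat.card G : ℚ) * ∑ χ, (U χ : ℚ) * ((τ χ : ℚ) ^ 2 / ((n χ : ℤ) : ℚ)) : ℚ) : ℂ) =
        (R : ℂ) := by
      rw [← hR, ← struct_comb C a1 a2 a3]
      push_cast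
      refine congrArg ((Nat.card G : ℂ) * ·) (Finset.sum_congr rfl fun χ _ => ?_)
      rw [← hU, hτ, hn]
      ring
    rw [← Finset.sum_erase_add Finset.univ _ (Finset.mem_univ o)] at e
    have e' := (Rat.cast_injective e : _ = R)
    rw [hτo, hUo, on] at e'
    show (Nat.card G : ℚ) * (1 + ∑ χ ∈ J, (U χ : ℚ) * ((τ χ : ℚ) ^ 2 / ((n χ : ℤ) : ℚ))) = R
    push_cast at e' ⊢
    linear_combination e'
  have hg : (Nat.card G : ℚ) ≠ 0 := by exact_mod_cast Nat.card_pos.ne'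
  refine no_table (J := J) (f := A) (h := h) (h' := h') (n := fun χ => (n χ : ℤ)) (g := Nat.card G)
    (fun χ _ => by exact_mod_cast hn0 χ)
    (fun χ _ => Int.natCast_dvd_natCast.mpr (degree_dvd_card χ.2 (hn χ))) (fun χ _ => ?_)
    (fun χ hχ => ?_) ?_ ?_ ?_ ?_ ?_ ?_ (hdeg A _ _ _ hA oA) (hdeg h _ _ _ hh1 oh)
    (hdeg h' _ _ _ hh2 oh') (hstruct A _ _ _ hA oA 1152 (by norm_num))
    ((mul_eq_zero.mp (hstruct h _ _ _ hh1 oh 0 (by norm_num))).resolve_left hg)
    ((mul_eq_zero.mp (hstruct h' _ _ _ hh2 oh' 0 (by norm_num))).resolve_left hg)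
  · obtain ⟨k, hk⟩ := congr_eight C (isCharacter_of_isIrr χ.2)
    rw [hn, ← hτ] at hk
    have : (n χ : ℤ) + 7 * τ χ = 8 * (k : ℤ) := by exact_mod_cast hk
    refine ⟨(k : ℤ) - τ χ, ?_⟩
    simp only [τ] at this ⊢
    omega
  · have e := norm_lt C (Finset.mem_erase.mp hχ).1 (hn χ)
    rw [← hτ, Complex.norm_intCast] at e
    exact_mod_cast e
  · exact hprod A A _ _ _ _ _ _ hA hA oA oA 3 (by norm_num)
  · exact hprod h h _ _ _ _ _ _ hh1 hh1 oh oh 3
      (by linear_combination (4 / 3 : ℂ) * (μ - 2) * hμ)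
  · exact hprod h' h' _ _ _ _ _ _ hh2 hh2 oh' oh' 3
      (by linear_combination (4 / 3 : ℂ) * (μ - 2) * hμ)
  · exact hprod A h _ _ _ _ _ _ hA hh1 oA oh 1
      (by linear_combination (-2 / 3 : ℂ) * hμ)
  · exact hprod A h' _ _ _ _ _ _ hA hh2 oA oh' 1
      (by linear_combination (-2 / 3 : ℂ) * hμ)
  · exact hprod h h' _ _ _ _ _ _ hh1 hh2 oh oh' 1
      (by linear_combination (2 / 3 : ℂ) * (μ ^ 2 - μ - 1) * hμ)

end Four

end CfsgLib.JankoExt
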