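import Mathlib
import Cfsg.Agent.Lib.JankoExt.AltTransfer
import Cfsg.Agent.Lib.Invol.ZStarFinal
import Cfsg.Agent.Lib.Cores.Basic

/-!
# Without a subgroup of index two the involution is not isolated
-/

set_option autoImplicit false
set_option linter.style.haveILetI false

open Subgroup

namespace CfsgLib.JankoExt

variable {G : Type*} [Group G] [Finite G] {J : G} {T : Subgroup G}

omit [Finite G] in
theorem exists_parts (hd : Cfsg.IsInternalDirectProduct (zpowers J) T
    (Subgroup.centralizer ({J} : Set G))) {c : G} (hc : c ∈ Subgroup.centralizer ({J} : Set G)) :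
    ∃ j ∈ zpowers J, ∃ s ∈ T, j * s = c := by
  obtain ⟨-, -, hcomm, -, hsup⟩ := hd
  rw [← hsup, ← SetLike.mem_coe, Subgroup.coe_mul_of_left_le_normalizer_right _ _
    ((fun w hw => centralizer_le_normalizer _ (mem_centralizer_iff.mpr
      fun r hr => (hcomm w hw r hr).symm)) : zpowers J ≤ normalizer (T : Set G))] at hc
  exact hc

omit [Finite G] in
theorem sq_mem (hJ : J * J = 1) (hd : Cfsg.IsInternalDirectProduct (zpowers J) T
    (Subgroup.centralizer ({J} : Set G))) {c : G} (hc : c ∈ Subgroup.centralizer ({J} : Set G)) :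
    c * c ∈ T := by
  obtain ⟨j, hj, s, hs, rfl⟩ := exists_parts hd hc
  have hj2 : j * j = 1 := by
    obtain ⟨i, rfl⟩ := mem_zpowers_iff.mp hj
    rw [← (Commute.refl J).mul_zpow, hJ, one_zpow]
  have e : j * s * (j * s) = j * j * (s * s) :=
    Commute.mul_mul_mul_comm (hd.2.2.1 j hj s hs).symm j s
  rw [e, hj2, one_mul]
  exact mul_mem hs hs

theorem exists_moved (hJ : orderOf J = 2)
    (hd : Cfsg.IsInternalDirectProduct (zpowers J) T (Subgroup.centralizer ({J} : Set G)))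
    (h2 : ∀ N : Subgroup G, N.Normal → N.index ≠ 2) :
    ∃ g : G, Commute J (g * J * g⁻¹) ∧ g * J * g⁻¹ ≠ J := by
  by_contra hne
  push Not at hne
  have hiso : Cfsg.IsIsolatedInvolution J := ⟨hJ, hne⟩
  have hJJ : J * J = 1 := by rw [← sq, ← hJ]; exact pow_orderOf_eq_one J
  have hJi : J⁻¹ = J := inv_eq_of_mul_eq_one_left hJJ
  set O := Cfsg.oddCore G with hO
  haveI : O.Normal := by
    have := CfsgLib.Cores.pPrimeCore_characteristic (G := G) 2
    exact inferInstanceAs (Cfsg.pPrimeCore 2 G).Normal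
  have hOodd : Odd (Nat.card O) := CfsgLib.Cores.odd_card_oddCore
  have hhalf : ∀ o ∈ O, ∃ q, q * q = o ∧ q ∈ zpowers o := by
    intro o ho
    obtain ⟨k, hk⟩ := hOodd.of_dvd_nat (O.orderOf_dvd_natCard ho)
    refine ⟨o ^ (k + 1), ?_, npow_mem_zpowers o (k + 1)⟩
    rw [← pow_add, show k + 1 + (k + 1) = orderOf o + 1 by omega, pow_succ, pow_orderOf_eq_one,
      one_mul]
  -- the Frattini argument
  have hgen : ∀ g : G, ∃ c ∈ Subgroup.centralizer ({J} : Set G), ∃ o ∈ O, c * o = g := by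
    intro g
    have hz := CfsgLib.Invol.zstar hiso g⁻¹
    rw [hJi, inv_inv] at hz
    set o := J * g⁻¹ * J * g with ho
    have hinv : J * o * J⁻¹ = o⁻¹ := by
      rw [hJi, ho, mul_inv_rev, mul_inv_rev, mul_inv_rev, hJi, inv_inv]
      calc J * (J * g⁻¹ * J * g) * J = (J * J) * g⁻¹ * J * g * J := by group
        _ = g⁻¹ * (J * (g * J)) := by rw [hJJ]; group
    obtain ⟨q, hq, hqz⟩ := hhalf o hz
    have hqinv : J * q * J⁻¹ = q⁻¹ := by
      obtain ⟨i, rfl⟩ := mem_zpowers_iff.mp hqz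
      rw [← conj_zpow, hinv, inv_zpow]
    have hqO : q ∈ O := zpowers_le.mpr hz hqz
    have e1 : q⁻¹ * J * q = g⁻¹ * J * g := by
      calc q⁻¹ * J * q = (J * q * J⁻¹) * J * q := by rw [hqinv]
        _ = J * (q * q) := by group
        _ = g⁻¹ * J * g := by
          rw [hq, ho]
          calc J * (J * g⁻¹ * J * g) = (J * J) * g⁻¹ * J * g := by group
            _ = _ := by rw [hJJ, one_mul]
    refine ⟨g * q⁻¹, mem_centralizer_singleton_iff.mpr ?_, q, hqO, inv_mul_cancel_right g q⟩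
    calc g * q⁻¹ * J = g * (q⁻¹ * J * q) * q⁻¹ := by group
      _ = J * (g * q⁻¹) := by rw [e1]; group
  -- the subgroup of index two
  set H := T ⊔ O with hH
  have hJT : J ∉ T := fun h => by
    have : J ∈ zpowers J ⊓ T := ⟨mem_zpowers J, h⟩
    rw [hd.2.2.2.1, mem_bot] at this
    rw [this, orderOf_one] at hJ
    omega
  have hJH : J ∉ H := by
    intro h
    rw [hH, ← SetLike.mem_coe, Subgroup.mul_normal] at h
    obtain ⟨s, hs, o, ho, he⟩ := h
    simp only at he
    have hoC : o ∈ Subgroup.centralizer ({J} : Set G) := by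
      rw [show o = s⁻¹ * J by rw [← he, inv_mul_cancel_left]]
      exact mul_mem (inv_mem (hd.2.1 hs)) (hd.1 (mem_zpowers J))
    obtain ⟨q, hq, hqz⟩ := hhalf o ho
    exact hJT (he ▸ mul_mem hs (hq ▸ sq_mem hJJ hd (zpowers_le.mpr hoC hqz)))
  have hTC : ∀ c ∈ Subgroup.centralizer ({J} : Set G), ∀ s ∈ T, c * s * c⁻¹ ∈ T := by
    intro c hc s hs
    obtain ⟨j, hj, r, hr, rfl⟩ := exists_parts hd hc
    have e : j * r * s * (j * r)⁻¹ = j * (r * s * r⁻¹) * j⁻¹ := by group
    rw [e, hd.2.2.1 j hj _ (mul_mem (mul_mem hr hs) (inv_mem hr)), mul_inv_cancel_right]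
    exact mul_mem (mul_mem hr hs) (inv_mem hr)
  have hHn : H.Normal := by
    refine ⟨fun x hx g => ?_⟩
    obtain ⟨c, hc, o, ho, rfl⟩ := hgen g
    have h1 : o * x * o⁻¹ ∈ H :=
      mul_mem (mul_mem (mem_sup_right ho) hx) (inv_mem (mem_sup_right ho))
    rw [hH, ← SetLike.mem_coe, Subgroup.mul_normal] at h1
    obtain ⟨s, hs, u, hu, he⟩ := h1
    simp only at he
    rw [show c * o * x * (c * o)⁻¹ = c * (o * x * o⁻¹) * c⁻¹ by group, ← he, ← conj_mul]
    exact mul_mem (mem_sup_left (hTC c hc s hs)) (mem_sup_right (Normal.conj_mem inferInstance u hu c))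
  refine h2 H hHn (Subgroup.index_eq_two_iff.mpr ⟨J, fun b => ?_⟩)
  have hnot : b ∈ H → b * J ∉ H := fun hb hbJ => hJH (by
    have := mul_mem (inv_mem hb) hbJ
    rwa [inv_mul_cancel_left] at this)
  obtain ⟨c, hc, o, ho, rfl⟩ := hgen b
  obtain ⟨j, hj, s, hs, rfl⟩ := exists_parts hd hc
  have hso : s * o ∈ H := mul_mem (mem_sup_left hs) (mem_sup_right ho)
  obtain ⟨i, rfl⟩ := mem_zpowers_iff.mp hj
  rcases Int.even_or_odd i with ⟨k, rfl⟩ | ⟨k, rfl⟩
  · have hb : J ^ (k + k) * s * o ∈ H := by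
      rw [← two_mul, zpow_mul, zpow_two, hJJ, one_zpow, one_mul]; exact hso
    exact Or.inr ⟨hb, hnot hb⟩
  · have hb : J ^ (2 * k + 1) * s * o * J ∈ H := by
      rw [zpow_add, zpow_mul, zpow_two, hJJ, one_zpow, one_mul, zpow_one, mul_assoc J s o]
      have := hHn.conj_mem _ hso J
      rwa [hJi] at this
    exact Or.inl ⟨hb, fun h => hnot h hb⟩

end CfsgLib.JankoExt
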