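import Mathlib
import Cfsg.Agent.Lib.JankoExt.Fusion
import Cfsg.Agent.Lib.Cores.Basic

/-!
# The subgroup generated by the involutions
-/

set_option autoImplicit false
set_option linter.style.haveILetI false

open Subgroup

namespace CfsgLib.JankoExt

/-- The subgroup generated by the elements of order at most two. -/
def invSub (G : Type*) [Group G] : Subgroup G := closure {w | w * w = 1}

theorem mem_invSub {G : Type*} [Group G] {w : G} (hw : w * w = 1) : w ∈ invSub G := subset_closure hw

instance invSub_normal {G : Type*} [Group G] : (invSub G).Normal := by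
  refine ⟨fun n hn g => ?_⟩
  induction hn using closure_induction with
  | mem w hw =>
    exact mem_invSub (by rw [conj_mul, (hw : w * w = 1), mul_one, mul_inv_cancel])
  | one => simp
  | mul a b _ _ ha hb => rw [← conj_mul]; exact mul_mem ha hb
  | inv a _ ha => rw [← conj_inv]; exact inv_mem ha

theorem relIndex_sup_eq {G : Type*} [Group G] [Finite G] (H D : Subgroup G) [D.Normal] :
    H.relIndex (H ⊔ D) = H.relIndex D := by
  have h1 := relIndex_mul_relIndex ⊥ H (H ⊔ D) bot_le le_sup_left
  have h2 := relIndex_mul_relIndex ⊥ D (H ⊔ D) bot_le le_sup_right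
  have h3 := relIndex_mul_relIndex ⊥ (H ⊓ D) H bot_le inf_le_left
  have h4 := relIndex_mul_relIndex ⊥ (H ⊓ D) D bot_le inf_le_right
  simp only [relIndex_bot_left, relIndex_sup_right, inf_relIndex_right, inf_relIndex_left] at h1 h2 h3 h4
  rw [← h2, ← h3, ← h4, mul_assoc, mul_assoc] at h1
  rw [mul_comm (H.relIndex D)] at h1
  have hp : D.relIndex H ≠ 0 := fun h0 => by
    rw [h0, mul_zero] at h3; exact Nat.card_pos.ne' h3.symm
  exact Nat.eq_of_mul_eq_mul_left (Nat.pos_of_ne_zero hp)
    (Nat.eq_of_mul_eq_mul_left Nat.card_pos h1)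

namespace Cent

variable {G : Type*} [Group G] [Finite G] {K : Type*} [Group K] {M : Model K} (C : Cent G M)
include C

theorem invSub_le {D : Subgroup G} [D.Normal] (hD : D ≠ ⊥) : invSub G ≤ D :=
  (closure_le _).mpr fun _ hw => C.mem_of_normal hD hw

omit [Finite G] in
theorem S_le_invSub : C.S ≤ invSub G := by
  rintro _ ⟨k, hk, rfl⟩
  exact mem_invSub (C.sq_em k (M.cv_sq k (mem_centralizer_singleton_iff.mp hk)))

omit [Finite G] in
theorem invSub_ne_bot : invSub G ≠ ⊥ := fun h =>
  C.t_ne (mem_bot.mp (h ▸ mem_invSub C.t_sq))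

/-- The stabiliser of `t` in the normaliser of the Sylow subgroup has index seven. -/
theorem index_stab : ((Subgroup.centralizer ({C.t} : Set G)).subgroupOf
    (normalizer (C.S : Set G))).index = 7 := by
  classical
  set N := normalizer (C.S : Set G)
  letI : MulAction N G :=
    MulAction.compHom G ((ConjAct.toConjAct : G ≃* ConjAct G).toMonoidHom.comp N.subtype)
  have hsmul : ∀ (n : N) (x : G), n • x = (n : G) * x * (n : G)⁻¹ := fun n x => rfl
  have hst : MulAction.stabilizer N C.t = (Subgroup.centralizer ({C.t} : Set G)).subgroupOf N := by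
    ext n
    rw [MulAction.mem_stabilizer_iff, hsmul, mem_subgroupOf, mem_centralizer_singleton_iff,
      mul_inv_eq_iff_eq_mul]
  have hor : MulAction.orbit N C.t = (C.S : Set G) \ {1} := by
    ext x
    constructor
    · rintro ⟨n, rfl⟩
      refine ⟨(mem_normalizer_iff.mp n.2 C.t).mp C.t_mem_S, fun h => C.t_ne ?_⟩
      exact conj_eq_one_iff.mp h
    · rintro ⟨⟨k, hk, rfl⟩, hx⟩
      obtain ⟨n, hn, hne⟩ := C.conj_in_normalizer (mem_centralizer_singleton_iff.mp hk)
        fun h => hx (by rw [h, map_one]; rfl)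
      exact ⟨⟨n, hn⟩, hne⟩
  rw [← hst, MulAction.index_stabilizer, hor, Set.ncard_sdiff (by simp [one_mem]),
    Set.ncard_singleton, ← Nat.card_coe_set_eq]
  have : Nat.card (C.S : Set G) = 8 := C.card_S
  rw [this]

theorem oddCore_invSub : Cfsg.oddCore (invSub G) = ⊥ := by
  haveI : (Cfsg.oddCore (invSub G)).Characteristic :=
    CfsgLib.Cores.pPrimeCore_characteristic (G := invSub G) 2
  haveI : ((Cfsg.oddCore (invSub G)).map (invSub G).subtype).Normal := inferInstance
  have h : (Cfsg.oddCore (invSub G)).map (invSub G).subtype = ⊥ := by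
    refine C.eq_bot_of_odd ?_
    rw [card_map_of_injective (invSub G).subtype_injective]
    exact CfsgLib.Cores.odd_card_oddCore
  exact (map_eq_bot_iff_of_injective _ (invSub G).subtype_injective).mp h

theorem exists_sylow_invSub : ∃ P : Sylow 2 (invSub G),
    (P : Subgroup (invSub G)).map (invSub G).subtype = C.S := by
  haveI : Fact (Nat.Prime 2) := ⟨Nat.prime_two⟩
  obtain ⟨P, hP⟩ := C.exists_sylow
  have hle : (P : Subgroup G) ≤ invSub G := hP ▸ C.S_le_invSub
  exact ⟨P.subtype hle, by rw [Sylow.coe_subtype, subgroupOf_map_subtype, inf_of_le_left hle, hP]⟩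

/-- The normaliser of the Sylow subgroup moves `t` inside the subgroup of involutions. -/
theorem invSub_transitive (hS : ¬C.S.Normal) :
    ∀ n ∈ normalizer (C.S : Set G), ∃ m ∈ invSub G, ∃ s, m * s = n ∧ Commute s C.t := by
  haveI : Fact (Nat.Prime 2) := ⟨Nat.prime_two⟩
  set N := normalizer (C.S : Set G) with hN
  set St := (Subgroup.centralizer ({C.t} : Set G)).subgroupOf N with hSt
  set M' := (invSub G).subgroupOf N with hM'
  have hidx := C.index_stab
  have hmul := relIndex_mul_index (le_sup_left : St ≤ St ⊔ M')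
  haveI : M'.Normal := normal_subgroupOf
  rw [relIndex_sup_eq, hidx] at hmul
  rcases (Nat.dvd_prime (by norm_num)).mp (Dvd.intro _ hmul : St.relIndex M' ∣ 7) with h | h
  · exfalso
    apply hS
    have hle : M' ≤ St := relIndex_eq_one.mp h
    obtain ⟨P, hP⟩ := C.exists_sylow_invSub
    have hmemN : ∀ a : invSub G, a ∈ normalizer ((P : Subgroup (invSub G)) : Set (invSub G)) →
        (a : G) ∈ N := by
      intro a ha
      rw [hN, mem_normalizer_iff]
      intro x
      have key : ∀ b : invSub G, (b : G) ∈ C.S ↔ b ∈ (P : Subgroup (invSub G)) := fun b => by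
        rw [← hP]
        exact ⟨fun ⟨c, hc, e⟩ => Subtype.ext e ▸ hc, fun hb => ⟨b, hb, rfl⟩⟩
      constructor
      · intro hx
        have := (mem_normalizer_iff.mp ha ⟨x, C.S_le_invSub hx⟩).mp ((key _).mp hx)
        exact (key (a * ⟨x, C.S_le_invSub hx⟩ * a⁻¹)).mpr this
      · intro hx
        have hxI : x ∈ invSub G := by
          have := C.S_le_invSub hx
          simpa [mul_assoc] using mul_mem (mul_mem (inv_mem a.2) this) a.2
        exact (key ⟨x, hxI⟩).mpr ((mem_normalizer_iff.mp ha ⟨x, hxI⟩).mpr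
          ((key (a * ⟨x, hxI⟩ * a⁻¹)).mp hx))
    have hNC : normalizer ((P : Subgroup (invSub G)) : Set (invSub G)) ≤
        centralizer ((P : Subgroup (invSub G)) : Set (invSub G)) := by
      intro a ha
      rw [mem_centralizer_iff]
      intro b hb
      apply Subtype.ext
      show (b : G) * a = a * b
      have hbS : (b : G) ∈ C.S := hP ▸ ⟨b, hb, rfl⟩
      obtain ⟨k, hk, hke⟩ := hbS
      by_cases hk1 : k = 1
      · rw [← hke, hk1, map_one, one_mul, mul_one]
      obtain ⟨n, hn, hne⟩ := C.conj_in_normalizer (mem_centralizer_singleton_iff.mp hk) hk1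
      haveI : M'.Normal := normal_subgroupOf
      have h1 : (⟨n, hn⟩ : N)⁻¹ * ⟨a, hmemN a ha⟩ * ⟨n, hn⟩ ∈ St := hle (by
        have := Normal.conj_mem (H := M') inferInstance ⟨a, hmemN a ha⟩ a.2 (⟨n, hn⟩ : N)⁻¹
        simpa using this)
      have h2 : Commute (n⁻¹ * (a : G) * n) C.t := mem_centralizer_singleton_iff.mp h1
      rw [← hke, ← hne]
      calc n * C.t * n⁻¹ * (a : G) = n * (C.t * (n⁻¹ * a * n)) * n⁻¹ := by group
        _ = a * (n * C.t * n⁻¹) := by rw [← h2.eq]; group
    set f := MonoidHom.transferSylow P hNC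
    have hker : f.ker = ⊥ := by
      refine eq_bot_iff.mpr ((CfsgLib.Cores.le_oddCore_of_odd ?_).trans C.oddCore_invSub.le)
      rw [← Nat.not_even_iff_odd, even_iff_two_dvd]
      exact MonoidHom.not_dvd_card_ker_transferSylow P hNC
    have htop : (P : Subgroup (invSub G)) = ⊤ := by
      have hc : f.ker.IsComplement' (P : Subgroup (invSub G)) :=
        MonoidHom.ker_transferSylow_isComplement' P hNC
      rw [hker, isComplement'_bot_left] at hc
      exact hc
    have hSI : C.S = invSub G := by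
      rw [← hP, htop, ← MonoidHom.range_eq_map, range_subtype]
    rw [hSI]
    infer_instance
  · intro n hn
    have htop : St ⊔ M' = ⊤ := by
      rw [← index_eq_one]
      rw [h] at hmul
      omega
    haveI : M'.Normal := normal_subgroupOf
    have hmem : (⟨n, hn⟩ : N) ∈ M' ⊔ St := by rw [sup_comm, htop]; trivial
    rw [← SetLike.mem_coe, normal_mul] at hmem
    obtain ⟨m, hm, s, hs, he⟩ := hmem
    exact ⟨m, hm, s, congrArg Subtype.val he, mem_centralizer_singleton_iff.mp hs⟩

theorem sup_centralizer (hS : ¬C.S.Normal) :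
    invSub G ⊔ Subgroup.centralizer ({C.t} : Set G) = ⊤ := by
  haveI : Fact (Nat.Prime 2) := ⟨Nat.prime_two⟩
  obtain ⟨P, hP⟩ := C.exists_sylow_invSub
  have h := Sylow.normalizer_sup_eq_top P
  rw [hP] at h
  rw [eq_top_iff, ← h]
  refine sup_le (fun n hn => ?_) le_sup_left
  obtain ⟨m, hm, s, rfl, hs⟩ := C.invSub_transitive hS n hn
  exact mul_mem (mem_sup_left hm) (mem_sup_right (mem_centralizer_singleton_iff.mpr hs))

theorem isSimple_invSub (hS : ¬C.S.Normal) : IsSimpleGroup (invSub G) := by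
  haveI : Fact (Nat.Prime 2) := ⟨Nat.prime_two⟩
  haveI : Nontrivial (invSub G) := (nontrivial_iff_ne_bot _).mpr C.invSub_ne_bot
  refine ⟨fun D hD => ?_⟩
  by_cases hbot : D = ⊥
  · exact Or.inl hbot
  right
  have h2 : 2 ∣ Nat.card D := by
    rw [← even_iff_two_dvd, ← Nat.not_odd_iff_even]
    exact fun h => hbot (eq_bot_iff.mpr ((CfsgLib.Cores.le_oddCore_of_odd h).trans
      C.oddCore_invSub.le))
  obtain ⟨a, ha⟩ := exists_prime_orderOf_dvd_card' (G := D) 2 h2
  rw [← orderOf_coe, ← orderOf_coe] at ha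
  have ha2 : ((a : invSub G) : G) * (a : invSub G) = 1 := by
    rw [← sq, ← ha]; exact pow_orderOf_eq_one _
  have ha1 : ((a : invSub G) : G) ≠ 1 := fun h => by rw [h, orderOf_one] at ha; omega
  obtain ⟨g, hg⟩ := isConj_iff.mp (C.fusion ha2 ha1)
  -- the conjugate of `D` through `t`
  set D' := D.map (MulAut.conjNormal g⁻¹ : MulAut (invSub G)).toMonoidHom with hD'
  haveI : D'.Normal := hD.map _ (MulEquiv.surjective _)
  have htD : (⟨C.t, mem_invSub C.t_sq⟩ : invSub G) ∈ D' := by
    refine ⟨a, a.2, Subtype.ext ?_⟩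
    show g⁻¹ * ((a : invSub G) : G) * g⁻¹⁻¹ = C.t
    rw [← hg]; group
  obtain ⟨P, hP⟩ := C.exists_sylow_invSub
  have hSD : ∀ b ∈ (P : Subgroup (invSub G)), b ∈ D' := by
    intro b hb
    have hbS : (b : G) ∈ C.S := hP ▸ ⟨b, hb, rfl⟩
    obtain ⟨k, hk, hke⟩ := hbS
    by_cases hk1 : k = 1
    · rw [show b = 1 from Subtype.ext (by rw [← hke, hk1, map_one]; rfl)]
      exact one_mem _
    obtain ⟨n, hn, hne⟩ := C.conj_in_normalizer (mem_centralizer_singleton_iff.mp hk) hk1
    obtain ⟨m, hm, s, rfl, hs⟩ := C.invSub_transitive hS n hn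
    have : b = ⟨m, hm⟩ * ⟨C.t, mem_invSub C.t_sq⟩ * (⟨m, hm⟩ : invSub G)⁻¹ := by
      apply Subtype.ext
      show (b : G) = m * C.t * m⁻¹
      rw [← hke, ← hne]
      calc m * s * C.t * (m * s)⁻¹ = m * (s * C.t) * s⁻¹ * m⁻¹ := by group
        _ = _ := by rw [hs.eq]; group
    rw [this]
    exact Normal.conj_mem inferInstance _ htD _
  have htop : D' = ⊤ := by
    rw [eq_top_iff]
    rintro x -
    have hall : ∀ w : G, ∀ hw : w * w = 1, (⟨w, mem_invSub hw⟩ : invSub G) ∈ D' := by
      intro w hw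
      set wI : invSub G := ⟨w, mem_invSub hw⟩
      have hp : IsPGroup 2 (zpowers wI) :=
        CfsgLib.LocalEven.zpowers_pow_prime_isPGroup (Subtype.ext (by rw [sq]; exact hw))
      obtain ⟨Q, hQ⟩ := hp.exists_le_sylow
      obtain ⟨c, hc⟩ := MulAction.exists_smul_eq (invSub G) Q P
      have h1 : c * wI * c⁻¹ ∈ (P : Subgroup (invSub G)) := by
        rw [← hc, Sylow.coe_subgroup_smul]
        exact ⟨wI, hQ (mem_zpowers wI), by simp⟩
      have := Normal.conj_mem (H := D') inferInstance _ (hSD _ h1) c⁻¹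
      simpa [mul_assoc] using this
    have hle : invSub G ≤ D'.map (invSub G).subtype :=
      (closure_le _).mpr fun w hw => ⟨_, hall w hw, rfl⟩
    obtain ⟨y, hy, hye⟩ := hle x.2
    exact Subtype.ext hye ▸ hy
  rw [eq_top_iff]
  rintro x -
  have hx : (MulAut.conjNormal g⁻¹ : MulAut (invSub G)) x ∈ D' := htop ▸ mem_top _
  obtain ⟨y, hy, hye⟩ := hx
  exact (MulAut.conjNormal g⁻¹ : MulAut (invSub G)).injective hye ▸ hy

theorem not_commutative (hS : ¬C.S.Normal) :
    ¬invSub G ≤ Subgroup.centralizer ((invSub G : Subgroup G) : Set G) := by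
  haveI : Fact (Nat.Prime 2) := ⟨Nat.prime_two⟩
  intro hab
  haveI := C.isSimple_invSub hS
  obtain ⟨P, hP⟩ := C.exists_sylow_invSub
  haveI hn : (P : Subgroup (invSub G)).Normal := ⟨fun n hn g => by
    have hc : g * n = n * g := Subtype.ext ((mem_centralizer_iff.mp (hab n.2) g g.2))
    rw [hc, mul_inv_cancel_right]; exact hn⟩
  rcases IsSimpleGroup.eq_bot_or_eq_top_of_normal _ hn with h | h
  · have h8 := C.card_S
    rw [← hP, h, Subgroup.map_bot, card_bot] at h8
    norm_num at h8
  · apply hS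
    rw [← hP, h, ← MonoidHom.range_eq_map, range_subtype]
    infer_instance

end Cent

end CfsgLib.JankoExt
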