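import Mathlib
import Cfsg.Agent.Lib.JankoExt.Normal
import Cfsg.Agent.Lib.JankoExt.Isolated
import Cfsg.Agent.Lib.JankoExt.FourSimple
import Cfsg.Agent.Lib.JankoOne.Main
import Cfsg.Agent.Lib.Char.Burnside
import Cfsg.Agent.Lib.FGS.SelfNormSimple.Converse
import Cfsg.Agent.S1230
import Cfsg.Agent.S2602

/-!
# Centralisers `2 × A₄` and `2 × A₅`
-/

set_option autoImplicit false
set_option linter.style.haveILetI false

open Subgroup

universe u

namespace CfsgLib.JankoExt

section Build

variable {G : Type*} [Group G] {J : G}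

/-- The map of the cyclic group of order two onto the group generated by an involution. -/
def twoHom (hJ : J * J = 1) : Multiplicative (ZMod 2) →* G where
  toFun a := J ^ (Multiplicative.toAdd a).val
  map_one' := by simp
  map_mul' a b := by
    rw [toAdd_mul, ZMod.val_add, ← pow_add]
    exact (pow_eq_pow_mod _ (by rw [sq, hJ])).symm

theorem twoHom_one (hJ : J * J = 1) : twoHom hJ (Multiplicative.ofAdd 1) = J := by
  show J ^ (1 : ZMod 2).val = J
  rw [show (1 : ZMod 2).val = 1 from rfl, pow_one]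

variable {T : Subgroup G} {m : ℕ}

theorem exists_cent [Finite G] (hJ : Cfsg.IsTwoCentralInvolution J)
    (e : ↥T ≃* ↥(alternatingGroup (Fin m)))
    (hd : Cfsg.IsInternalDirectProduct (zpowers J) T (Subgroup.centralizer ({J} : Set G)))
    (h2 : ∀ N : Subgroup G, N.Normal → N.index ≠ 2)
    {M : Model (Multiplicative (ZMod 2) × alternatingGroup (Fin m))}
    (hM : M.tM = (Multiplicative.ofAdd 1, 1)) : ∃ C : Cent G M, C.t = J := by
  have hord := hJ.1
  have hJJ : J * J = 1 := by rw [← sq, ← hord]; exact pow_orderOf_eq_one J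
  have hmem : ∀ a, twoHom hJJ a ∈ zpowers J := fun a => npow_mem_zpowers J _
  let em : Multiplicative (ZMod 2) × alternatingGroup (Fin m) →* G :=
    MonoidHom.noncommCoprod (twoHom hJJ) (T.subtype.comp e.symm.toMonoidHom)
      fun a b => hd.2.2.1 _ (hmem a) _ (e.symm b).2
  have hem : ∀ a b, em (a, b) = twoHom hJJ a * (e.symm b : G) := fun a b => rfl
  have ht : em M.tM = J := by rw [hM, hem, twoHom_one, map_one, Subgroup.coe_one, mul_one]
  have hJ1 : J ≠ 1 := fun h => by rw [h, orderOf_one] at hord; omega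
  refine ⟨{ t := J, em := em, inj := ?_, em_t := ht, surj := ?_, two_central := hJ,
            moved := exists_moved hord hd h2 }, rfl⟩
  · rw [injective_iff_map_eq_one]
    rintro ⟨a, b⟩ hab
    rw [hem] at hab
    have hin : (e.symm b : G) ∈ zpowers J ⊓ T := by
      refine ⟨?_, (e.symm b).2⟩
      rw [show (e.symm b : G) = (twoHom hJJ a)⁻¹ from eq_inv_of_mul_eq_one_right hab]
      exact (zpowers J).inv_mem (hmem a)
    rw [hd.2.2.2.1, mem_bot] at hin
    have hb : b = 1 := e.symm.injective (Subtype.ext (by rw [map_one]; exact hin))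
    rw [hin, mul_one] at hab
    have : ∀ x : Multiplicative (ZMod 2), x = 1 ∨ x = Multiplicative.ofAdd 1 := by decide
    rcases this a with rfl | rfl
    · rw [hb]; rfl
    · rw [twoHom_one] at hab; exact absurd hab hJ1
  · intro g hg
    obtain ⟨j, hj, s, hs, rfl⟩ := exists_parts hd (mem_centralizer_singleton_iff.mpr hg.eq)
    obtain ⟨i, rfl⟩ := mem_zpowers_iff.mp hj
    refine ⟨(Multiplicative.ofAdd 1 ^ i, e ⟨s, hs⟩), ?_⟩
    rw [hem, map_zpow, twoHom_one, MulEquiv.symm_apply_apply]

end Build

namespace Cent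

variable {G : Type*} [Group G] [Finite G] {K : Type*} [Group K] {M : Model K} (C : Cent G M)
include C

omit [Finite G] in
/-- The centraliser as the model. -/
theorem exists_equiv : Nonempty (Subgroup.centralizer ({C.t} : Set G) ≃* K) := by
  have h : C.em.range = Subgroup.centralizer ({C.t} : Set G) := by
    ext g
    rw [mem_centralizer_singleton_iff]
    exact ⟨fun ⟨k, hk⟩ => hk ▸ (C.comm k).eq, fun hg => C.surj g hg⟩
  exact ⟨(MulEquiv.subgroupCongr h.symm).trans (MonoidHom.ofInjective C.inj).symm⟩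

theorem isSimple_of_top (h : invSub G = ⊤) : IsSimpleGroup G := by
  haveI : Nontrivial G := ⟨⟨C.t, 1, C.t_ne⟩⟩
  refine ⟨fun D hD => ?_⟩
  by_cases hbot : D = ⊥
  · exact Or.inl hbot
  · exact Or.inr (eq_top_iff.mpr (h ▸ C.invSub_le hbot))

end Cent

/-- The case of degree five. -/
theorem case_five {G : Type*} [Group G] [Finite G] (C : Cent G model5) :
    IsSimpleGroup G ∧ Nat.card G = 175560 := by
  have hS : ¬C.S.Normal := by
    intro hn
    obtain ⟨c, l, hl, hc⟩ := not_stable5
    refine hc ((C.mem_S _).mp ?_)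
    rw [map_mul, map_mul, map_inv]
    exact hn.conj_mem _ ((C.mem_S l).mpr hl) _
  have htop : invSub G = ⊤ := by
    rw [eq_top_iff, ← C.sup_centralizer hS]
    refine sup_le le_rfl fun g hg => ?_
    obtain ⟨k, rfl⟩ := C.surj g (mem_centralizer_singleton_iff.mp hg)
    obtain ⟨a, ha, hak⟩ := strongly_real5 k
    rw [show k = a * (a * k) by rw [← mul_assoc, ha, one_mul], map_mul]
    exact mul_mem (mem_invSub (C.sq_em a ha)) (mem_invSub (C.sq_em _ hak))
  haveI := C.isSimple_of_top htop
  obtain ⟨e⟩ := C.exists_equiv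
  obtain ⟨d⟩ := JankoOne.exists_data C.t C.two_central e
  exact ⟨inferInstance, JankoOne.card_eq d⟩

theorem v4_mem : ∀ k : K4, k * k = 1 → k * v4 = v4 * k := by decide +kernel

theorem four_not_normal {G : Type*} [Group G] [Finite G] (C : Cent G model4)
    (hns : ¬Group.IsSolvable G) : ¬C.S.Normal := by
  classical
  intro hn
  apply hns
  haveI := hn
  have hN : normalizer (C.S : Set G) = ⊤ := normalizer_eq_top _
  have hidx := C.index_stab
  rw [← relIndex, hN, relIndex_top_right] at hidx
  obtain ⟨e⟩ := C.exists_equiv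
  have hG : Nat.card G = 168 := by
    rw [← (Subgroup.centralizer ({C.t} : Set G)).card_mul_index, hidx, Nat.card_congr e.toEquiv,
      card_K4]
  have hq : Nat.card (G ⧸ C.S) ∣ 3 ^ 1 * 7 ^ 1 := by
    have h := card_eq_card_quotient_mul_card_subgroup C.S
    rw [hG, C.card_S] at h
    rw [show Nat.card (G ⧸ C.S) = 21 by omega]
    norm_num
  haveI := CfsgLib.Char.isSolvable_of_card_eq_pow_mul_pow (G := G ⧸ C.S) (by norm_num : Nat.Prime 3)
    (by norm_num : Nat.Prime 7) hq
  haveI : IsMulCommutative C.S := ⟨⟨fun a b => Subtype.ext (C.S_comm a a.2 b b.2)⟩⟩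
  haveI : Group.IsSolvable C.S :=
    Group.isSolvable_of_comm fun a b => Subtype.ext (C.S_comm a a.2 b b.2)
  exact Group.isSolvable_of_ker_le_range C.S.subtype (QuotientGroup.mk' C.S)
    (by rw [QuotientGroup.ker_mk', range_subtype])

/-- The case of degree four. -/
theorem case_four {G : Type*} [Group G] [Finite G] (C : Cent G model4)
    (hns : ¬Group.IsSolvable G) :
    ∃ (F : Type) (_ : Field F) (_ : Fintype F), Fintype.card F = 8 ∧
      Nonempty (G ≃* MulAut (Matrix.ProjectiveSpecialLinearGroup (Fin 2) F)) := by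
  classical
  haveI : Fact (Nat.Prime 2) := ⟨Nat.prime_two⟩
  haveI := Fintype.ofFinite G
  have hS := four_not_normal C hns
  set N := invSub G with hN
  set Ct := Subgroup.centralizer ({C.t} : Set G) with hCt
  obtain ⟨eC⟩ := C.exists_equiv
  have hCt24 : Nat.card Ct = 24 := by rw [Nat.card_congr eC.toEquiv, card_K4]
  have hSle : C.S ≤ N ⊓ Ct := le_inf C.S_le_invSub fun x hx => by
    obtain ⟨k, -, rfl⟩ := hx
    exact mem_centralizer_singleton_iff.mpr (C.comm k).eq
  have h8 : 8 ∣ Nat.card (N ⊓ Ct : Subgroup G) := C.card_S ▸ card_dvd_of_le hSle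
  have h24 : Nat.card (N ⊓ Ct : Subgroup G) ∣ 24 := hCt24 ▸ card_dvd_of_le inf_le_right
  have hnot24 : Nat.card (N ⊓ Ct : Subgroup G) ≠ 24 := by
    intro h
    have htop : N = ⊤ := by
      have heq : N ⊓ Ct = Ct := eq_of_le_of_card_ge inf_le_right (by rw [h, hCt24])
      rw [eq_top_iff, ← C.sup_centralizer hS]
      exact sup_le le_rfl fun x hx => (show x ∈ N ⊓ Ct by rw [heq]; exact hx).1
    haveI := C.isSimple_of_top htop
    exact Four.not_simple C
  have hcard8 : Nat.card (N ⊓ Ct : Subgroup G) = 8 := by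
    have := Nat.le_of_dvd (by norm_num) h24
    interval_cases Nat.card (N ⊓ Ct : Subgroup G) <;> omega
  have hNCt : N ⊓ Ct = C.S := (eq_of_le_of_card_ge hSle (by rw [hcard8, C.card_S])).symm
  -- the index
  have hidx : N.index = 3 := by
    have h1 := relIndex_sup_right Ct N
    rw [sup_comm Ct N, C.sup_centralizer hS, relIndex_top_right] at h1
    have h2 := (N.subgroupOf Ct).card_mul_index
    have h3 : Nat.card (N.subgroupOf Ct) = 8 := by
      rw [← hcard8, ← inf_subgroupOf_right]
      exact Nat.card_congr (subgroupOfEquivOfLe (inf_le_right : N ⊓ Ct ≤ Ct)).toEquiv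
    rw [h3, hCt24, ← relIndex, ← h1] at h2
    omega
  -- recognition of the normal subgroup
  obtain ⟨P, hP⟩ := C.exists_sylow_invSub
  haveI := C.isSimple_invSub hS
  have hPcard : Nat.card P = 8 := by
    rw [← C.card_S, ← hP, card_map_of_injective N.subtype_injective]
  have hPn : ¬(P : Subgroup N).Normal := fun hn => by
    rcases IsSimpleGroup.eq_bot_or_eq_top_of_normal _ hn with h | h
    · have := hPcard
      rw [show Nat.card P = Nat.card (P : Subgroup N) from rfl, h, card_bot] at this
      norm_num at this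
    · apply hS
      rw [← hP, h, ← MonoidHom.range_eq_map, range_subtype]
      infer_instance
  have hPc : ¬IsCyclic (P : Subgroup N) := by
    intro hc
    obtain ⟨g, hg⟩ := isCyclic_iff_exists_orderOf_eq_natCard.mp hc
    have h2 : g ^ 2 = 1 := by
      apply Subtype.ext
      apply Subtype.ext
      have hmem : ((g : N) : G) ∈ C.S := hP ▸ ⟨g, g.2, rfl⟩
      obtain ⟨k, hk, hke⟩ := hmem
      show ((g : N) : G) ^ 2 = 1
      rw [← hke, sq]
      exact C.sq_em k (cv_sq4 k (mem_centralizer_singleton_iff.mp hk))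
    have := orderOf_dvd_of_pow_eq_one h2
    rw [hg] at this
    rw [show Nat.card (P : Subgroup N) = 8 from hPcard] at this
    norm_num at this
  obtain ⟨F, iF, iF', hF, ⟨eN⟩⟩ := Cfsg.Agent.S1230.result P hPc hPn (fun a ha => by
    rw [← orderOf_coe] at ha
    have ha2 : (a : G) * a = 1 := by rw [← sq, ← ha]; exact pow_orderOf_eq_one _
    have ha1 : (a : G) ≠ 1 := fun h => by rw [h, orderOf_one] at ha; omega
    obtain ⟨g, hg⟩ := isConj_iff.mp (C.fusion ha2 ha1)
    have key : ∀ c ∈ Subgroup.centralizer ({a} : Set N), g⁻¹ * (c : G) * g ∈ C.S := fun c hc => by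
      rw [← hNCt]
      refine ⟨?_, mem_centralizer_singleton_iff.mpr ?_⟩
      · simpa using (invSub_normal (G := G)).conj_mem _ c.2 g⁻¹
      · have hca : (c : G) * a = a * c := congrArg Subtype.val (mem_centralizer_singleton_iff.mp hc)
        rw [← hg] at hca
        calc g⁻¹ * (c : G) * g * C.t = g⁻¹ * ((c : G) * (g * C.t * g⁻¹)) * g := by group
          _ = _ := by rw [hca]; group
    refine ⟨⟨⟨fun c d => ?_⟩⟩, fun c hc => ?_⟩
    · apply Subtype.ext; apply Subtype.ext
      show ((c : N) : G) * (d : N) = (d : N) * (c : N)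
      apply (MulAut.conj g⁻¹).injective
      rw [map_mul, map_mul]
      simp only [MulAut.conj_apply, inv_inv]
      exact C.S_comm _ (key c c.2) _ (key d d.2)
    · apply Subtype.ext
      obtain ⟨k, hk, hke⟩ := key c hc
      show (c : G) ^ 2 = 1
      have : (g⁻¹ * (c : G) * g) * (g⁻¹ * (c : G) * g) = 1 := by
        rw [← hke]; exact C.sq_em k (cv_sq4 k (mem_centralizer_singleton_iff.mp hk))
      rw [sq]
      calc (c : G) * c = g * ((g⁻¹ * (c : G) * g) * (g⁻¹ * (c : G) * g)) * g⁻¹ := by group
        _ = 1 := by rw [this]; group)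
  have hF8 : Fintype.card F = 2 ^ 3 := by rw [hF, hPcard]; norm_num
  refine ⟨F, iF, iF', by rw [hF8]; norm_num, ?_⟩
  haveI : CharP F 2 := charP_of_card_eq_prime_pow hF8
  have hcardN : Nat.card N = 504 := by
    rw [Nat.card_congr eN.toEquiv,
      CfsgLib.FGS.SelfNormSimple.card_psl_two_pow hF8 (by norm_num)]
    norm_num
  have hG : Nat.card G = 1512 := by rw [← N.card_mul_index, hcardN, hidx]
  -- the conjugation action is faithful
  let ρ : G →* MulAut N := MulAut.conjNormal
  have hker : ρ.ker = ⊥ := by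
    by_contra hne
    apply C.not_commutative hS
    refine (C.invSub_le hne).trans fun x hx => mem_centralizer_iff.mpr fun y hy => ?_
    have := congrArg Subtype.val (DFunLike.congr_fun (hx : ρ x = 1) ⟨y, hy⟩)
    simp only [ρ, MulAut.conjNormal_apply, MulAut.one_apply] at this
    exact (mul_inv_eq_iff_eq_mul.mp this).symm
  haveI hconj : Function.Injective (MulAut.conj : N →* MulAut N) := by
    rw [injective_iff_map_eq_one]
    intro z hz
    apply Subtype.ext
    show (z : G) = 1
    rw [← mem_bot, ← hker]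
    refine DFunLike.ext _ _ fun y => Subtype.ext ?_
    have := congrArg Subtype.val (DFunLike.congr_fun hz y)
    simpa [ρ, MulAut.conjNormal_apply] using this
  let φ : MulAut N ≃* MulAut (Matrix.ProjectiveSpecialLinearGroup (Fin 2) F) := MulAut.congr eN
  obtain ⟨ψ, hψ, -, hψk⟩ := Cfsg.Agent.S2602.result (F := F) (p := 2) (f := 3) (by norm_num) hF8
    (by norm_num)
  have hOut : Nat.card (Cfsg.Out (Matrix.ProjectiveSpecialLinearGroup (Fin 2) F)) = 3 := by
    rw [← ψ.ker.card_mul_index, hψk, index_ker, MonoidHom.range_eq_top.mpr hψ, card_top,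
      Nat.card_eq_fintype_card, Fintype.card_multiplicative, ZMod.card]
    norm_num
  have hInn : Nat.card (Cfsg.Inn (Matrix.ProjectiveSpecialLinearGroup (Fin 2) F)) = 504 := by
    rw [← hcardN, Nat.card_congr eN.toEquiv]
    refine (Nat.card_congr (MonoidHom.ofInjective ?_).toEquiv).symm
    rw [injective_iff_map_eq_one]
    intro z hz
    obtain ⟨y, rfl⟩ := eN.surjective z
    have : MulAut.conj y = 1 := MulEquiv.ext fun w => eN.injective (by
      simpa using DFunLike.congr_fun hz (eN w))
    rw [hconj (this.trans (map_one _).symm), map_one]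
  have hAut : Nat.card (MulAut (Matrix.ProjectiveSpecialLinearGroup (Fin 2) F)) = 1512 := by
    rw [card_eq_card_quotient_mul_card_subgroup
      (Cfsg.Inn (Matrix.ProjectiveSpecialLinearGroup (Fin 2) F)), hInn]
    rw [show Nat.card (MulAut (Matrix.ProjectiveSpecialLinearGroup (Fin 2) F) ⧸
      Cfsg.Inn (Matrix.ProjectiveSpecialLinearGroup (Fin 2) F)) = 3 from hOut]
  let f : G →* MulAut (Matrix.ProjectiveSpecialLinearGroup (Fin 2) F) := φ.toMonoidHom.comp ρ
  have hf : Function.Injective f := φ.injective.comp ((MonoidHom.ker_eq_bot_iff ρ).mp hker)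
  refine ⟨MulEquiv.ofBijective f ((Nat.bijective_iff_injective_and_card _).mpr ⟨hf, ?_⟩)⟩
  rw [hG, hAut]

end CfsgLib.JankoExt
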